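import Mathlib

/-!
# Weakly closed quaternion subgroups: definitions

`S` is a `2`-subgroup of a finite group `Γ` (not assumed Sylow); `Sat H S` lists the consequences
of the saturation of the fusion system of `H` on `S` in elementwise form.
-/

set_option autoImplicit false

namespace H93.QW

open Subgroup

variable {Γ : Type*} [Group Γ]

/-- `g` conjugates `P` into `Q`. -/
def Cj (g : Γ) (P Q : Subgroup Γ) : Prop := ∀ u ∈ P, g * u * g⁻¹ ∈ Q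

/-- the centraliser of `u` in `S` -/
def cS (S : Subgroup Γ) (u : Γ) : Subgroup Γ where
  carrier := {c | c ∈ S ∧ c * u = u * c}
  one_mem' := ⟨one_mem _, by simp⟩
  mul_mem' := fun {a b} ha hb => ⟨mul_mem ha.1 hb.1, by
    rw [mul_assoc, hb.2, ← mul_assoc, ha.2, mul_assoc]⟩
  inv_mem' := fun {a} ha => ⟨inv_mem ha.1, by
    rw [inv_mul_eq_iff_eq_mul, ← mul_assoc, ha.2, mul_inv_cancel_right]⟩

theorem mem_cS {S : Subgroup Γ} {u c : Γ} : c ∈ cS S u ↔ c ∈ S ∧ c * u = u * c := Iff.rfl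

theorem cS_le (S : Subgroup Γ) (u : Γ) : cS S u ≤ S := fun _ h => h.1

theorem mem_cS_top {u c : Γ} : c ∈ cS ⊤ u ↔ c * u = u * c := ⟨fun h => h.2, fun h => ⟨trivial, h⟩⟩

/-- `X` is strongly closed in `S` with respect to `H`. -/
def SC (H S X : Subgroup Γ) : Prop := ∀ g ∈ H, ∀ u ∈ X, g * u * g⁻¹ ∈ S → g * u * g⁻¹ ∈ X

/-- `P` is centric and radical. -/
structure Rad (H S P : Subgroup Γ) : Prop where
  le : P ≤ S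
  cen : ∀ c ∈ S, (∀ u ∈ P, c * u = u * c) → c ∈ P
  rad : ∀ K : Subgroup Γ, (∀ k ∈ K, k ∈ H ∧ Cj k P P) → (∀ g ∈ H, Cj g P P → Cj g K K) →
    (∀ k ∈ K, Odd (orderOf k) → ∀ u ∈ P, k * u = u * k) → ∀ k ∈ K, k ∈ S → k ∈ P

/-- Elementwise consequences of the saturation of the fusion system of `H` on `S`. -/
structure Sat (H S : Subgroup Γ) : Prop where
  le : S ≤ H
  pgrp : IsPGroup 2 S
  extC : ∀ u ∈ S, ∀ g ∈ H, g * u * g⁻¹ ∈ S → (∀ k ∈ H, k * u * k⁻¹ ∈ S →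
      Nat.card (cS S (k * u * k⁻¹)) ≤ Nat.card (cS S (g * u * g⁻¹))) →
    ∃ h ∈ H, h * u * h⁻¹ = g * u * g⁻¹ ∧ Cj h (cS S u) S
  extP : ∀ P ≤ S, ∀ g ∈ H, Cj g P P →
    (∀ k ∈ H, Cj k P S → ∃ s ∈ S, Cj (s * k) P P) →
    ∃ h ∈ H, (∀ u ∈ P, h * u * h⁻¹ = g * u * g⁻¹) ∧
      ∀ c ∈ S, (∀ u ∈ P, c * u = u * c) → h * c * h⁻¹ ∈ S
  extN : ∀ P ≤ S, ∀ Q ≤ S, (∀ s ∈ S, Cj s Q Q) → ∀ g ∈ H, Cj g P Q → Cj g⁻¹ Q P →
    ∃ h ∈ H, Cj h P Q ∧ Cj h⁻¹ Q P ∧ ∀ s ∈ S, Cj s P P → h * s * h⁻¹ ∈ S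
  syl : ∀ Q ≤ S, (∀ s ∈ S, Cj s Q Q) → ∀ g ∈ H, Cj g Q Q →
    ∃ k : ℕ, Odd k ∧ ∃ v ∈ H, Cj v Q Q ∧ Cj v⁻¹ Q Q ∧ ∃ s ∈ S,
      ∀ c ∈ Q, g ^ k * c * (g ^ k)⁻¹ = v⁻¹ * s * v * c * (v⁻¹ * s * v)⁻¹
  alp : ∀ C : Subgroup Γ → Γ → Prop,
    (∀ P Q g, P ≤ Q → C Q g → C P g) →
    (∀ P Q g h, P ≤ S → Q ≤ S → Cj g P Q → Cj h Q S → C P g → C Q h → C P (h * g)) →
    (∀ P g h, (∀ u ∈ P, g * u * g⁻¹ = h * u * h⁻¹) → C P g → C P h) →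
    (∀ s ∈ S, C S s) →
    (∀ P, Rad H S P → ∀ g ∈ H, Cj g P P → Odd (orderOf g) → C P g) →
    ∀ P ≤ S, ∀ g ∈ H, Cj g P S → C P g
  foc : ∀ K ≤ S, SC H S K → (∀ s ∈ S, ∀ t ∈ S, s * t * s⁻¹ * t⁻¹ ∈ K) →
    (∀ g ∈ H, Cj g S S → Odd (orderOf g) → ∀ u ∈ S, u⁻¹ * (g * u * g⁻¹) ∈ K) →
    ∀ g ∈ H, ∀ u ∈ S, g * u * g⁻¹ ∈ S → u⁻¹ * (g * u * g⁻¹) ∈ K
  scc : ∀ X ≤ S, SC H S X → ∀ K : Subgroup Γ,
    (∀ u, u ∈ K ↔ ∃ r ∈ X, ∃ t ∈ S, (∀ v ∈ X, t * v = v * t) ∧ u = r * t) → SC H S K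

/-- The transfer condition. -/
def Tr (S : Subgroup Γ) : Prop := ∀ K : Subgroup Γ, (∀ s ∈ S, ∀ t ∈ S, s * t * s⁻¹ * t⁻¹ ∈ K) →
  ∀ u ∈ S, u * u = 1 → u ∉ K → ∃ g, Cj g (cS S u) S ∧ u * (g * u * g⁻¹) ∉ K

/-- `R = ⟨ρ, σ⟩` is a normal quaternion subgroup of order `16 * 2 ^ n` of the `2`-group `S`, with
involution `z` and centraliser `T`. -/
structure QS (n : ℕ) (S R T : Subgroup Γ) (ρ σ z : Γ) : Prop where
  pgrp : IsPGroup 2 S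
  ord : ∀ i : ℤ, ρ ^ i = 1 ↔ (8 * 2 ^ n : ℤ) ∣ i
  z_def : z = ρ ^ (4 * 2 ^ n : ℤ)
  sq : σ * σ = z
  conj : σ * ρ * σ⁻¹ = ρ⁻¹
  mem_R : ∀ g, g ∈ R ↔ ∃ i : ℤ, g = ρ ^ i ∨ g = ρ ^ i * σ
  le : R ≤ S
  norm : ∀ s ∈ S, Cj s R R
  mem_T : ∀ g, g ∈ T ↔ g ∈ S ∧ g * ρ = ρ * g ∧ g * σ = σ * g

/-- The hypotheses of the theorem. -/
structure Hyp (n : ℕ) (S R T : Subgroup Γ) (ρ σ z : Γ) : Prop extends QS n S R T ρ σ z where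
  sat : Sat ⊤ S
  satz : Sat (cS ⊤ z) S
  wc : ∀ g, Cj g R S → Cj g R R
  sc : ∀ y ∈ T, y * y = 1 → y ≠ 1 → SC (cS ⊤ y) S R
  nz : ∃ g, g * z * g⁻¹ ∈ S ∧ g * z * g⁻¹ ≠ z
  tr : Tr S

/-- A second conjugate `z'` of `z` with maximal centraliser and the element `a` cycling
`z, z', z z'`. -/
structure Tri (S : Subgroup Γ) (z z' a : Γ) : Prop where
  mem : z' ∈ S
  ne : z' ≠ z
  az : a * z * a⁻¹ = z'
  az' : a * z' * a⁻¹ = z * z'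
  odd : Odd (orderOf a)
  nm : Cj a (cS S z') (cS S z')
  nm' : Cj a⁻¹ (cS S z') (cS S z')
  max : ∀ g, Cj g (cS S z') S → g * z * g⁻¹ ≠ z → Cj g⁻¹ (cS S (g * z * g⁻¹)) (cS S z')

/-- The structure of `S` when `z'` centralises `ρ`. -/
structure CC (n : ℕ) (S : Subgroup Γ) (ρ σ x y w a : Γ) : Prop where
  ord : ∀ i j : ℤ, x ^ i * y ^ j = 1 ↔ (8 * 2 ^ n : ℤ) ∣ i ∧ (8 * 2 ^ n : ℤ) ∣ j
  comm : x * y = y * x
  x_mem : x ∈ S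
  y_mem : y ∈ S
  w_mem : w ∈ S
  rho : ρ = y * x⁻¹
  sig : σ = w * x ^ (4 * 2 ^ n : ℤ)
  ww : w * w = 1
  wx : w * x * w⁻¹ = y
  ax : a * x * a⁻¹ = y⁻¹
  ay : a * y * a⁻¹ = x * y⁻¹
  dec : ∀ s ∈ S, ∃ i j l : ℤ, ∃ c ∈ S, a * c = c * a ∧ c * x * c⁻¹ = x ^ l ∧ c * y * c⁻¹ = y ^ l ∧
    (s = x ^ i * y ^ j * c ∨ s = x ^ i * y ^ j * c * w)
  cen : ∀ c ∈ S, c * x = x * c → c * y = y * c → ∃ i j : ℤ, c = x ^ i * y ^ j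

/-- Relations of the Sylow `2`-subgroup of `G₂(q)`. -/
structure GM0 (n : ℕ) (x y w d : Γ) : Prop where
  ord : ∀ i j : ℤ, x ^ i * y ^ j = 1 ↔ (8 * 2 ^ n : ℤ) ∣ i ∧ (8 * 2 ^ n : ℤ) ∣ j
  comm : x * y = y * x
  ww : w * w = 1
  dd : d * d = 1
  wd : w * d = d * w
  wx : w * x * w⁻¹ = y
  dx : d * x * d⁻¹ = x⁻¹
  dy : d * y * d⁻¹ = y⁻¹

/-- `S` is generated by `x, y, w, d`. -/
structure GM (n : ℕ) (S : Subgroup Γ) (x y w d : Γ) : Prop extends GM0 n x y w d where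
  mem : ∀ g, g ∈ S ↔ ∃ i j : ℤ, g = x ^ i * y ^ j ∨ g = x ^ i * y ^ j * w ∨
    g = x ^ i * y ^ j * d ∨ g = x ^ i * y ^ j * (w * d)

/-- Two commuting quaternion subgroups. -/
structure DQ (n : ℕ) (S R T : Subgroup Γ) (ρ σ η τ z x : Γ) : Prop where
  q : QS n S R T ρ σ z
  q' : QS n S T R η τ z
  pm : ∀ s ∈ S, s * ρ * s⁻¹ = ρ ∨ s * ρ * s⁻¹ = ρ⁻¹
  pm' : ∀ s ∈ S, s * η * s⁻¹ = η ∨ s * η * s⁻¹ = η⁻¹
  x_mem : x ∈ S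
  xρ : x * ρ = ρ * x
  xσ : x * σ * x⁻¹ = ρ⁻¹ * σ
  xη : x * η = η * x
  xτ : x * τ * x⁻¹ = η⁻¹ * τ

theorem DQ.symm {n : ℕ} {S R T : Subgroup Γ} {ρ σ η τ z x : Γ} (h : DQ n S R T ρ σ η τ z x) :
    DQ n S T R η τ ρ σ z x := ⟨h.q', h.q, h.pm', h.pm, h.x_mem, h.xη, h.xτ, h.xρ, h.xσ⟩

/-- An element centralising `η, τ` and cycling the quaternion group `⟨ρ ^ (2 * 2 ^ n), σ⟩`. -/
def GR (n : ℕ) (ρ σ η τ : Γ) : Prop := ∃ g : Γ, g * ρ ^ (2 * 2 ^ n : ℤ) * g⁻¹ = σ ∧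
  g * σ * g⁻¹ = ρ ^ (2 * 2 ^ n : ℤ) * σ ∧ g * η = η * g ∧ g * τ = τ * g

/-- the quaternion subgroups of order `8` of `⟨ρ, σ⟩` -/
def Q8 (n : ℕ) (ρ σ : Γ) (k : ℤ) : Subgroup Γ := closure {ρ ^ (2 * 2 ^ n : ℤ), ρ ^ k * σ}

/-- generator of the first quaternion subgroup -/
def gρ (x y : Γ) : Γ := y * x⁻¹

/-- second generator of the first quaternion subgroup -/
def gσ (n : ℕ) (x w : Γ) : Γ := w * x ^ (4 * 2 ^ n : ℤ)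

/-- the central involution -/
def gz (n : ℕ) (x y : Γ) : Γ := (y * x⁻¹) ^ (4 * 2 ^ n : ℤ)

/-- the first quaternion subgroup; the second one is `gQ n x y⁻¹ (w * d)` -/
def gQ (n : ℕ) (x y w : Γ) : Subgroup Γ := closure {gρ x y, gσ n x w}

/-- The normal form of the fusion system of `G₂(q)`, saturation excepted. -/
structure NF (n : ℕ) (S : Subgroup Γ) (x y w d : Γ) : Prop extends GM n S x y w d where
  tri : ∃ a : Γ, a * x * a⁻¹ = y⁻¹ ∧ a * y * a⁻¹ = x * y⁻¹ ∧ a * d = d * a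
  gR : GR n (gρ x y) (gσ n x w) (gρ x y⁻¹) (gσ n x (w * d))
  gT : GR n (gρ x y⁻¹) (gσ n x (w * d)) (gρ x y) (gσ n x w)
  sc : SC (cS ⊤ (gz n x y)) S (gQ n x y w)

/-- `f` is multiplicative on `S`. -/
def Mul {Γ' : Type*} [Group Γ'] (S : Subgroup Γ) (f : Γ → Γ') : Prop :=
  ∀ a ∈ S, ∀ b ∈ S, f (a * b) = f a * f b

/-- conjugation by `g` on `P` is induced, through `f`, by an element of the other group -/
def Re {Γ' : Type*} [Group Γ'] (f : Γ → Γ') (P : Subgroup Γ) (g : Γ) : Prop :=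
  ∃ g' : Γ', ∀ u ∈ P, f (g * u * g⁻¹) = g' * f u * g'⁻¹

/-! ### First consequences -/

variable {H S P Q : Subgroup Γ} {g h u : Γ}

theorem Cj.mul {X : Subgroup Γ} (h1 : Cj g P Q) (h2 : Cj h Q X) : Cj (h * g) P X := fun u hu => by
  simpa [mul_assoc] using h2 _ (h1 u hu)

theorem Cj.mono {P' Q' : Subgroup Γ} (h1 : Cj g P Q) (hP : P' ≤ P) (hQ : Q ≤ Q') : Cj g P' Q' :=
  fun u hu => hQ (h1 u (hP hu))

theorem Cj.of_mem (hg : g ∈ S) : Cj g S S := fun _ hu => mul_mem (mul_mem hg hu) (inv_mem hg)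

theorem Cj.pow (h1 : Cj g P P) (k : ℕ) : Cj (g ^ k) P P := by
  induction k with
  | zero => intro u hu; simpa using hu
  | succ k ih => rw [pow_succ']; exact ih.mul h1

theorem Cj.card_le [Finite Γ] (h1 : Cj g P Q) : Nat.card P ≤ Nat.card Q :=
  Nat.card_le_card_of_injective (fun u : P => (⟨_, h1 u u.2⟩ : Q)) fun a b e =>
    Subtype.ext (by simpa using congrArg Subtype.val e)

theorem Cj.inv_of_card [Finite Γ] (h1 : Cj g P Q) (hc : Nat.card Q ≤ Nat.card P) : Cj g⁻¹ Q P := by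
  have hi : Function.Injective (fun u : P => (⟨_, h1 u u.2⟩ : Q)) := fun a b e =>
    Subtype.ext (by simpa using congrArg Subtype.val e)
  have hb := hi.bijective_of_nat_card_le hc
  intro v hv
  obtain ⟨u, e⟩ := hb.2 ⟨v, hv⟩
  rw [← show g * u * g⁻¹ = v from congrArg Subtype.val e]
  simp [mul_assoc]

theorem Cj.inv [Finite Γ] (h1 : Cj g P P) : Cj g⁻¹ P P := h1.inv_of_card le_rfl

theorem Cj.cS (h1 : Cj g (cS S u) S) : Cj g (cS S u) (cS S (g * u * g⁻¹)) := fun c hc =>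
  ⟨h1 c hc, by
    rw [conj_mul, conj_mul, hc.2]⟩

namespace Sat

variable [Finite Γ] (hs : Sat H S)
include hs

/-- A central element is fully centralised. -/
theorem extZ (hu : u ∈ S) (hg : g ∈ H) (h1 : g * u * g⁻¹ ∈ S)
    (h2 : ∀ s ∈ S, s * (g * u * g⁻¹) = g * u * g⁻¹ * s) :
    ∃ h ∈ H, h * u * h⁻¹ = g * u * g⁻¹ ∧ Cj h (cS S u) S :=
  hs.extC u hu g hg h1 fun _ _ _ => card_le_of_le fun c hc => ⟨hc.1, h2 c hc.1⟩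

/-- Two conjugate elements have a common fully centralised conjugate. -/
theorem ext2 (hu : u ∈ S) (hg : g ∈ H) (h1 : g * u * g⁻¹ ∈ S) :
    ∃ h ∈ H, ∃ k ∈ H, h * u * h⁻¹ = k * (g * u * g⁻¹) * k⁻¹ ∧ Cj h (cS S u) S ∧
      Cj k (cS S (g * u * g⁻¹)) S := by
  obtain ⟨m, hm, h2⟩ := Set.exists_max_image {k | k ∈ H ∧ k * u * k⁻¹ ∈ S}
    (fun k => Nat.card (cS S (k * u * k⁻¹))) (Set.toFinite _) ⟨g, hg, h1⟩
  obtain ⟨h, hh, e, h3⟩ := hs.extC u hu m hm.1 hm.2 fun k hk h3 => h2 k ⟨hk, h3⟩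
  have e1 : m * g⁻¹ * (g * u * g⁻¹) * (m * g⁻¹)⁻¹ = m * u * m⁻¹ := by group
  obtain ⟨k, hk, e', h4⟩ := hs.extC _ h1 (m * g⁻¹) (mul_mem hm.1 (inv_mem hg)) (e1 ▸ hm.2)
    fun k hk h4 => by
      have e2 : k * (g * u * g⁻¹) * k⁻¹ = k * g * u * (k * g)⁻¹ := by group
      rw [e1, e2]
      exact h2 _ ⟨mul_mem hk hg, e2 ▸ h4⟩
  exact ⟨h, hh, k, hk, by rw [e, e', e1], h3, h4⟩

end Sat

theorem qw_eq_defs : True := by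
  have := @Cj.eq_1.{0}; have := @cS.eq_1.{0}; have := @SC.eq_1.{0}; have := @Tr.eq_1.{0}
  have := @GR.eq_1.{0}; have := @Q8.eq_1.{0}; have := @gρ.eq_1.{0}; have := @gσ.eq_1.{0}
  have := @gz.eq_1.{0}; have := @gQ.eq_1.{0}; have := @Mul.eq_1.{0, 0}; have := @Re.eq_1.{0, 0}
  trivial

end H93.QW
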