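import Cfsg.Agent.Lib.Fusion.ParkTransfer
import Cfsg.Agent.Lib.Fusion.NormalSub
import Cfsg.Agent.Lib.QW.Defs

/-!
# The elementwise saturation axioms and the transfer condition
-/

set_option autoImplicit false

namespace H93.QW

open Subgroup Cfsg Cfsg.FusionSystem H90

section Group

variable {Γ : Type*} [Group Γ] {H S P Q : Subgroup Γ} {hSH : S ≤ H} {g u : Γ}

local notation "𝓕" => fusionSystemOfSubgroup H S hSH

theorem mapc (hP : P ≤ S) (hg : g ∈ H) (h : Cj g P S) : Map 𝓕 P (cj g) :=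
  map_subgroup.2 ⟨hP, h, g, hg, fun _ _ => rfl⟩

theorem isoc (hP : P ≤ S) (hQ : Q ≤ S) (hg : g ∈ H) (h1 : Cj g P Q) (h2 : Cj g⁻¹ Q P) :
    Iso 𝓕 P Q (cj g) :=
  ⟨mapc hP hg (h1.mono le_rfl hQ), fun x => ⟨fun h => by simpa [mul_assoc] using h2 _ h, h1 x⟩⟩

theorem cent_zpowers (S : Subgroup Γ) (u : Γ) : centralizerIn S (zpowers u) = cS S u :=
  Subgroup.ext fun c => and_congr_right fun _ => ⟨fun h => (h u (mem_zpowers u)).symm, fun h => by
    rintro _ ⟨i, rfl⟩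
    exact ((show Commute c u from h).zpow_right i).eq.symm⟩

theorem cj_zpowers (g u : Γ) : Cj g (zpowers u) (zpowers (g * u * g⁻¹)) := by
  rintro _ ⟨i, rfl⟩
  exact ⟨i, by simp [conj_zpow]⟩

theorem iso_zpowers (hu : u ∈ S) (hg : g ∈ H) (h : g * u * g⁻¹ ∈ S) :
    Iso 𝓕 (zpowers u) (zpowers (g * u * g⁻¹)) (cj g) :=
  isoc (zpowers_le.2 hu) (zpowers_le.2 h) hg (cj_zpowers g u)
    (by simpa [mul_assoc] using cj_zpowers g⁻¹ (g * u * g⁻¹))

theorem sc_iff {X : Subgroup Γ} (hX : X ≤ S) : (𝓕).StronglyClosed X ↔ SC H S X :=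
  ⟨fun h g hg u hu h1 => (iso_zpowers (hX hu) hg h1).1.mem_of_stronglyClosed h (mem_zpowers u) hu,
    fun h => stronglyClosed_iff_map.2 ⟨hX, fun P f hf x hx hxX => by
      obtain ⟨-, h2, g, hg, e⟩ := map_subgroup.1 hf
      rw [e x hx]
      exact h g hg x hxX (e x hx ▸ h2 x hx)⟩⟩

variable [Finite Γ]

theorem Cj.norm (h : Cj g P P) : g ∈ normalizer (P : Set Γ) := mem_normalizer_of_conj_mem h

omit [Finite Γ] in
theorem cj_of_norm (h : g ∈ normalizer (P : Set Γ)) : Cj g P P :=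
  fun u hu => (mem_normalizer_iff.1 h u).1 hu

omit [Finite Γ] in
theorem exists_of_aut (hP : P ≤ S) {α : MulAut P} (hα : α ∈ (𝓕).autGroup P) :
    ∃ g ∈ H, Cj g P P ∧ ∀ x ∈ P, extA P α x = g * x * g⁻¹ := by
  obtain ⟨g, hg, e⟩ := H90.mem_autInducedBy.1 (autGroup_subgroup hSH hP ▸ hα)
  exact ⟨g, hg.1, cj_of_norm hg.2, e⟩

omit [Finite Γ] in
theorem extA_pow_cj {α : MulAut P} (e : ∀ x ∈ P, extA P α x = g * x * g⁻¹) (k : ℕ) :
    ∀ x ∈ P, extA P (α ^ k) x = g ^ k * x * (g ^ k)⁻¹ := fun x hx => by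
  rw [extA_pow_apply (σ := cj g) e k x hx, ← map_pow, cj_apply]

theorem exists_odd (hP : P ≤ S) {α : MulAut P} (hα : α ∈ (𝓕).autGroup P)
    (ho : (orderOf α).Coprime 2) :
    ∃ g ∈ H, Cj g P P ∧ Odd (orderOf g) ∧ ∀ x ∈ P, extA P α x = g * x * g⁻¹ := by
  obtain ⟨g, hg, h1, e⟩ := exists_of_aut hP hα
  obtain ⟨j, hj⟩ := exists_pow_p'_part (p := 2) g ho
  refine ⟨_, pow_mem hg _, h1.pow _, Nat.coprime_two_right.1 hj, fun x hx => ?_⟩
  rw [← extA_pow_cj e _ x hx, pow_add, pow_mul, pow_orderOf_eq_one, one_pow, pow_one, mul_one]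

theorem exists_two_pow {G : Type*} [Group G] [Finite G] (α : G) :
    ∃ k a : ℕ, Odd k ∧ (α ^ k) ^ 2 ^ a = 1 ∧ Odd (orderOf (α ^ 2 ^ a)) := by
  obtain ⟨a, k, hk, e⟩ := Nat.exists_eq_two_pow_mul_odd (orderOf_pos α).ne'
  refine ⟨k, a, hk, by rw [← pow_mul, mul_comm, ← e, pow_orderOf_eq_one], hk.of_dvd_nat ?_⟩
  rw [orderOf_dvd_iff_pow_eq_one, ← pow_mul, ← e, pow_orderOf_eq_one]

variable (hS : IsPGroup 2 S) (hF : (fusionSystemOfSubgroup H S hSH).IsSaturated 2)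
include hS hF

theorem exists_conj_two (hQ : (𝓕).IsFullyNormalized Q) {β : MulAut Q} (hβ : β ∈ (𝓕).autGroup Q)
    {a : ℕ} (h2 : β ^ 2 ^ a = 1) : ∃ v ∈ H, Cj v Q Q ∧ ∃ s ∈ S, Cj s Q Q ∧
      ∀ c ∈ Q, extA Q β c = v⁻¹ * s * v * c * (v⁻¹ * s * v)⁻¹ := by
  obtain ⟨γ, hγ, h1⟩ := (sylowIn_of_normalized hS hF hQ).exists_cj_le (Q := zpowers β)
    (IsPGroup.of_card_dvd_pow (n := a) (by
      rw [Nat.card_zpowers]; exact orderOf_dvd_of_pow_eq_one h2)) (zpowers_le.2 hβ)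
  obtain ⟨s, hs, e⟩ := H90.mem_autInducedBy.1 (h1 (H68.conj_mem_cj.2 (mem_zpowers β)))
  obtain ⟨v, hv, h3, e'⟩ := exists_of_aut hQ.1 hγ
  refine ⟨v, hv, h3, s, hs.1, cj_of_norm hs.2, fun c hc => ?_⟩
  have h4 := e _ (extA_mem γ hc)
  rw [← extA_mul_apply, inv_mul_cancel_right, extA_mul_apply, e' _ (extA_mem β hc), e' c hc] at h4
  calc _ = v⁻¹ * (v * extA Q β c * v⁻¹) * v := by group
    _ = _ := by rw [h4]; group

theorem rad_of (hP : P = S ∨ (𝓕).IsEssential 2 P) : Rad H S P := by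
  obtain rfl | hP := hP
  · exact ⟨le_rfl, fun _ h _ => h, fun _ _ _ _ _ _ h => h⟩
  refine ⟨hP.1.1, fun c hc h => isCentric_self_le hP.1 ⟨hc, fun u hu => (h u hu).symm⟩,
    fun K h1 h2 h3 k hk hkS => ?_⟩
  have hk' : k ∈ normalizerIn S P := ⟨hkS, (h1 k hk).2.norm⟩
  refine mem_of_conjAut_mem_pCoreOf hP.1 (isRadical_of_isEssential hS hP) hk'
    (H1.le_pCoreOf (K := autInducedBy K P) ?_ (le_normalizer_iff.2 fun γ hγ α hα => ?_)
      (H68.isPGroup_iff_forall.2 fun α hα => ?_) (conjAut_mem hk _))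
  · rw [autGroup_subgroup hSH hP.1.1]
    exact autInducedBy_mono (fun k hk => (h1 k hk).1) P
  · obtain ⟨v, hv, h4, e⟩ := exists_of_aut hP.1.1 hγ
    obtain ⟨c, hc, e'⟩ := H90.mem_autInducedBy.1 hα
    have h5 := h2 v hv h4 c hc.1
    refine H90.mem_autInducedBy.2 ⟨_, ⟨h5, (h1 _ h5).2.norm⟩, fun x hx => ?_⟩
    obtain ⟨y, hy, rfl⟩ : ∃ y ∈ P, extA P γ y = x := ⟨_, extA_inv_mem γ hx, by simp⟩
    rw [← extA_mul_apply, inv_mul_cancel_right, extA_mul_apply, e _ (extA_mem α hy), e' y hy, e y hy]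
    group
  · obtain ⟨c, hc, e⟩ := H90.mem_autInducedBy.1 hα
    obtain ⟨-, a, -, -, ho⟩ := exists_two_pow c
    exact ⟨a, extA_eq_one_iff.2 fun x hx => by
      rw [extA_pow_cj e _ x hx, h3 _ (pow_mem hc.1 _) ho x hx, mul_inv_cancel_right]⟩

theorem sat_of : Sat H S where
  le := hSH
  pgrp := hS
  extC u hu g hg h1 h2 := by
    have hi : Iso 𝓕 _ _ _ := iso_zpowers hu hg h1
    obtain ⟨τ, hτ, e, -⟩ := hi.extend_centralizer (receptive_of_centralized hS hF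
      (isFullyCentralized_iff.2 ⟨hi.le', fun Q σ hσ => by
        obtain ⟨-, h3, k, hk, e⟩ := map_subgroup.1 hσ.1
        have h4 := h3 _ (mem_zpowers _)
        rw [e _ (mem_zpowers _)] at h4
        rw [← hσ.im_eq, im_congr (g := cj k) e, (iso_zpowers (hSH := hSH) h1 hk h4).im_eq,
          cent_zpowers, cent_zpowers]
        have e1 : k * (g * u * g⁻¹) * k⁻¹ = k * g * u * (k * g)⁻¹ := by group
        rw [e1] at h4 ⊢
        exact h2 _ (mul_mem hk hg) h4⟩))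
    obtain ⟨-, h3, h, hh, e'⟩ := map_subgroup.1 hτ
    have h4 := mem_sup_left (T := centralizerIn S (zpowers u)) (mem_zpowers u)
    refine ⟨h, hh, by rw [← e' u h4, e u (mem_zpowers u), cj_apply], fun c hc => ?_⟩
    have h5 := mem_sup_right (S := zpowers u) (cent_zpowers S u ▸ hc : c ∈ centralizerIn S (zpowers u))
    exact e' c h5 ▸ h3 c h5
  extP P hP g hg h1 h2 := by
    have hi : Iso 𝓕 _ _ _ := isoc hP hP hg h1 h1.inv
    obtain ⟨τ, hτ, e, -⟩ := hi.extend_centralizer (receptive_of_centralized hS hF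
      (isFullyCentralized_iff.2 ⟨hP, fun Q σ hσ => by
        obtain ⟨-, h3, k, hk, e⟩ := map_subgroup.1 hσ.1
        obtain ⟨s, hs, h4⟩ := h2 k hk fun x hx => e x hx ▸ h3 x hx
        refine Cj.card_le (g := s) fun c hc => ⟨Cj.of_mem hs c hc.1, fun x hx => ?_⟩
        have h5 := hc.2 _ (hσ.mem (h4.inv x hx))
        rw [e _ (h4.inv x hx)] at h5
        calc _ = s * (k * ((s * k)⁻¹ * x * (s * k)⁻¹⁻¹) * k⁻¹ * c) * s⁻¹ := by group
          _ = _ := by rw [h5]; group⟩))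
    obtain ⟨-, h3, h, hh, e'⟩ := map_subgroup.1 hτ
    refine ⟨h, hh, fun u hu => by rw [← e' u (mem_sup_left hu), e u hu, cj_apply], fun c hc h4 => ?_⟩
    have h5 : c ∈ P ⊔ centralizerIn S P := mem_sup_right ⟨hc, fun u hu => (h4 u hu).symm⟩
    exact e' c h5 ▸ h3 c h5
  extN P hP Q hQ hn g hg h1 h2 := by
    obtain ⟨τ, hτ, hi, -⟩ := (isoc hP hQ hg h1 h2 : Iso 𝓕 _ _ _).exists_normalizer_map' hS hF
      (isFullyNormalized_of_le_normalizer hQ fun s hs => (hn s hs).norm)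
    obtain ⟨-, h3, h, hh, e⟩ := map_subgroup.1 hτ
    have h4 : Cj h P Q := fun x hx => e x (le_normalizerIn hP hx) ▸ hi.mem hx
    exact ⟨h, hh, h4, h4.inv_of_card hi.card_eq.ge, fun s hs h5 =>
      e s ⟨hs, h5.norm⟩ ▸ h3 s ⟨hs, h5.norm⟩⟩
  syl Q hQ hn g hg h1 := by
    have hα : conjAut Q g h1.norm ∈ (𝓕).autGroup Q := autGroup_subgroup hSH hQ ▸ conjAut_mem hg _
    obtain ⟨k, a, hk, h2, -⟩ := exists_two_pow (conjAut Q g h1.norm)
    obtain ⟨v, hv, h3, s, hs, -, e⟩ := exists_conj_two hS hF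
      (isFullyNormalized_of_le_normalizer hQ fun s hs => (hn s hs).norm) (pow_mem hα k) h2
    exact ⟨k, hk, v, hv, h3, h3.inv, s, hs, fun c hc => by
      rw [← e c hc, extA_pow_cj (fun _ hx => extA_conjAut _ hx) k c hc]⟩
  alp C h1 h2 h3 h4 h5 P hP g hg h6 := by
    obtain ⟨σ, ⟨k, -, e, h7⟩, e'⟩ := alperin_induction hS hF
      (C := fun P σ => ∃ g ∈ H, (∀ u ∈ P, σ u = g * u * g⁻¹) ∧ C P g) (fun P R σ hR hσ hPR => by
        have hRn : (𝓕).IsFullyNormalized R := by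
          rcases hR with rfl | hR
          exacts [isFullyNormalized_top _, hR.2.1]
        let M : Submonoid (MulAut R) :=
          { carrier := {α | ∃ g ∈ H, (∀ u ∈ R, extA R α u = g * u * g⁻¹) ∧ C R g}
            one_mem' := ⟨1, one_mem _, fun u _ => by simp, h1 _ _ _ hRn.1 (h4 1 (one_mem _))⟩
            mul_mem' := by
              rintro α β ⟨a, ha, ea, ca⟩ ⟨b, hb, eb, cb⟩
              exact ⟨a * b, mul_mem ha hb, fun u hu => by
                rw [extA_mul_apply, ea _ (extA_mem β hu), eb u hu]; group,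
                h2 R R b a hRn.1 hRn.1 (fun u hu => eb u hu ▸ extA_mem β hu)
                  (fun u hu => hRn.1 (ea u hu ▸ extA_mem α hu)) cb ca⟩ }
        let K : Subgroup (MulAut R) :=
          { M with
            inv_mem' := fun {α} hα => by
              have : α⁻¹ = α ^ (orderOf α - 1) := by
                rw [inv_eq_iff_mul_eq_one, ← pow_succ', Nat.sub_add_cancel (orderOf_pos α),
                  pow_orderOf_eq_one]
              exact this ▸ pow_mem (S := M) hα _ }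
        obtain ⟨g, hg, e, hc⟩ := mem_of_sylowIn_of_p'_elts (K := K) (sylowIn_of_normalized hS hF hRn)
          (fun α hα => by
            obtain ⟨s, hs, e⟩ := H90.mem_autInducedBy.1 hα
            exact ⟨s, hSH hs.1, e, h1 _ _ _ hRn.1 (h4 s hs.1)⟩)
          (fun α hα ho => by
            obtain ⟨g, hg, h7, h8, e⟩ := exists_odd hRn.1 hα ho
            exact ⟨g, hg, e, h5 R (rad_of hS hF hR) g hg h7 h8⟩) hσ.equiv_mem
        exact ⟨g, hg, fun u hu => by rw [← e u (hPR hu), extA_equiv hσ (hPR hu)], h1 _ _ _ hPR hc⟩)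
      (by
        rintro P Q σ τ hσ hτ ⟨a, ha, ea, ca⟩ ⟨b, hb, eb, cb⟩ hm
        exact ⟨b * a, mul_mem hb ha, fun u hu => by
          rw [Equiv.Perm.mul_apply, eb _ (hm u hu), ea u hu]; group,
          h2 P Q a b hσ.le hτ.le (fun u hu => ea u hu ▸ hm u hu)
            (fun u hu => eb u hu ▸ hτ.mem hu) ca cb⟩) (mapc hP hg h6)
    exact h3 P k g (fun u hu => (e u hu).symm.trans (e' u hu)) h7
  foc K hK h1 h2 h3 g hg u hu h4 := by
    have hc : ∀ s ∈ S, ∀ x ∈ S, x⁻¹ * (s * x * s⁻¹) ∈ K := fun s hs x hx => by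
      simpa [mul_assoc] using h2 _ (inv_mem hx) s hs
    let E := ofPerm S (fun P σ => Map 𝓕 P σ ∧ ∀ x ∈ P, x⁻¹ * σ x ∈ K)
      (fun _ _ h => ⟨h.1.le, fun _ hx => h.1.mem hx⟩) (fun _ _ h => h.1.homOn)
      (fun _ s hP hs => ⟨map_cj _ hP hs, fun x hx => hc s hs x (hP hx)⟩)
      (fun _ _ _ _ h h' hm => ⟨h.1.mul h'.1 hm, fun x hx => by
        simpa [mul_assoc] using mul_mem (h.2 x hx) (h'.2 _ (hm x hx))⟩)
      (fun _ _ h => ⟨h.1.inv, fun y hy => by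
        obtain ⟨x, hx, rfl⟩ := h.1.mem_im.1 hy
        simpa using inv_mem (h.2 x hx)⟩)
    have key : ∀ P ≤ S, ∀ α ∈ (𝓕).autGroup P, (∀ x ∈ P, x⁻¹ * extA P α x ∈ K) → α ∈ E.autGroup P :=
      fun P hP α hα h => (H90.mem_autGroup hP).2
        (map_ofPerm.2 ⟨_, ⟨(H90.mem_autGroup hP).1 hα, h⟩, fun _ _ => rfl⟩)
    have hE : (𝓕).IsSubsystemOf E := sub_of_essential_p_elts hS hF
      ((autGroup_le_iff le_rfl le_rfl).1 (mem_of_sylowIn_of_p'_elts (sylowIn_inn_top hS hF)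
        (inn_le_autGroup E le_rfl) fun α hα ho => by
          obtain ⟨g, hg, h5, h6, e⟩ := exists_odd le_rfl hα ho
          exact key S le_rfl α hα fun x hx => e x hx ▸ h3 g hg h5 h6 x hx))
      fun P hP α hα ⟨a, ha⟩ => key P hP.1.1 α hα fun x hx => by
        obtain ⟨v, hv, h5, s, hs, h6, e⟩ := exists_conj_two hS hF hP.2.1 hα ha
        have h7 := h5 x hx
        have h8 := h1 _ (inv_mem hv) _ (hc s hs _ (hP.1.1 h7))
          (hP.1.1 (h5.inv _ (mul_mem (inv_mem h7) (h6 _ h7))))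
        rw [e x hx]
        convert h8 using 1
        group
    obtain ⟨σ, hσ, e⟩ := map_ofPerm.1 ((iso_zpowers hu hg h4).1.of_sub hE)
    simpa [e u (mem_zpowers u)] using hσ.2 u (mem_zpowers u)
  scc X hX h1 K hK := by
    have h2 := stronglyClosed_sup_centralizerIn hS hF ((sc_iff hX).2 h1)
    rw [show X ⊔ centralizerIn S X = K from Subgroup.ext fun u => by
      rw [mem_sup_centralizerIn, hK]
      exact exists_congr fun r => and_congr_right fun _ =>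
        ⟨fun ⟨c, hc, e⟩ => ⟨c, hc.1, fun v hv => (hc.2 v hv).symm, e⟩,
          fun ⟨c, hc, h, e⟩ => ⟨c, ⟨hc, fun v hv => (h v hv).symm⟩, e⟩⟩] at h2
    exact (sc_iff h2.1).1 h2

end Group

section Cent

variable {Γ : Type*} [Group Γ] [Finite Γ] {S : Subgroup Γ} {z : Γ}

theorem sat_cent (hS : IsPGroup 2 S) (hF : (fusionSystemOfSubgroup ⊤ S le_top).IsSaturated 2)
    (hz : z ∈ S) (hc : S ≤ cS ⊤ z) : Sat (cS ⊤ z) S := by
  have hZ : zpowers z ≤ S := zpowers_le.2 hz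
  have h1 : ∀ g ∈ cS ⊤ z, ∀ x ∈ zpowers z, g * x * g⁻¹ = x := fun g hg x hx =>
    conj_eq_of_centralizer (cent_zpowers ⊤ z ▸ hg : g ∈ centralizerIn ⊤ (zpowers z)).2 hx
  refine sat_of (hSH := hc) hS (IsKSys.isSaturated hS hF (kData_fixP (zpowers z))
    (isFullyCentralized_of_le_centralizer hZ fun s hs => mem_centralizer_of_conj_eq (h1 s (hc hs)))
    ?_ ⟨le_antisymm (fun s hs => ⟨hs, h1 s (hc hs)⟩) inf_le_left, fun P f => ⟨fun hf => ?_, ?_⟩⟩)
  · rw [show (fixP (zpowers z)).comap (extA _) = ⊥ from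
      le_bot_iff.1 fun α hα => extA_eq_one_iff.2 hα, inf_bot_eq, inf_bot_eq]
    exact ⟨le_rfl, IsPGroup.of_bot, fun _ _ h1 h2 => le_antisymm h2 h1⟩
  · obtain ⟨hP, h2, g, hg, e⟩ := map_subgroup.1 hf
    exact ⟨hP, cj g, mapc (sup_le hP hZ) trivial ((homOn_cj _ g).mem_of_sup
      (fun x hx => by rw [cj_apply, ← e x hx]; exact h2 x hx)
      fun x hx => by rw [cj_apply, h1 g hg x hx]; exact hZ hx), fun x hx => (e x hx).symm, h1 g hg⟩
  · rintro ⟨hP, τ, hτ, e, h2⟩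
    obtain ⟨-, h3, g, -, e'⟩ := map_subgroup.1 hτ
    refine map_subgroup.2 ⟨hP, fun x hx => e x hx ▸ h3 x (mem_sup_left hx), g, mem_cS_top.2 ?_,
      fun x hx => by rw [← e x hx, e' x (mem_sup_left hx)]⟩
    rw [← mul_inv_eq_iff_eq_mul, ← e' z (mem_sup_right (mem_zpowers z)), h2 z (mem_zpowers z)]

end Cent

end H93.QW
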