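import Cfsg.Agent.Lib.QW.Defs

set_option autoImplicit false

namespace H93.QW

open Subgroup

/-! ### Arithmetic -/

theorem dvd_of_odd_mul {k : ℕ} {a b : ℤ} (ha : Odd a) (h : (2 ^ k : ℤ) ∣ a * b) : (2 ^ k : ℤ) ∣ b := by
  obtain ⟨c, rfl⟩ := ha
  exact IsCoprime.dvd_of_dvd_mul_left (IsCoprime.pow_left ⟨-c, 1, by ring⟩) h

theorem sq_cases {n : ℕ} {a : ℤ} (h : (8 * 2 ^ n : ℤ) ∣ a * a - 1) :
    (8 * 2 ^ n : ℤ) ∣ a - 1 ∨ (8 * 2 ^ n : ℤ) ∣ a + 1 ∨ (8 * 2 ^ n : ℤ) ∣ a - 1 - 4 * 2 ^ n ∨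
      (8 * 2 ^ n : ℤ) ∣ a + 1 - 4 * 2 ^ n := by
  have key : ∀ u : ℤ, (2 ^ (n + 1) : ℤ) ∣ u → (8 * 2 ^ n : ℤ) ∣ 2 * u ∨ (8 * 2 ^ n : ℤ) ∣ 2 * u - 4 * 2 ^ n := by
    rintro _ ⟨c, rfl⟩
    obtain ⟨e, rfl | rfl⟩ := Int.even_or_odd' c
    exacts [Or.inl ⟨e, by ring⟩, Or.inr ⟨e, by ring⟩]
  obtain ⟨c, hc⟩ := h
  obtain ⟨b, rfl | rfl⟩ := Int.even_or_odd' a
  · have : (2 : ℤ) * (2 * b * b - 4 * 2 ^ n * c) = 1 := by linear_combination hc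
    omega
  have h1 : (2 ^ (n + 1) : ℤ) ∣ b * (b + 1) := ⟨c, by
    have : (4 : ℤ) * (b * (b + 1)) = 4 * (2 ^ (n + 1) * c) := by linear_combination hc
    omega⟩
  rcases Int.even_or_odd b with hb | hb
  · rcases key b (dvd_of_odd_mul hb.add_one (mul_comm b _ ▸ h1)) with h | h
    · exact Or.inl (by simpa using h)
    · exact Or.inr (Or.inr (Or.inl (by simpa using h)))
  · rcases key (b + 1) (dvd_of_odd_mul hb h1) with h | h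
    · exact Or.inr (Or.inl (by convert h using 1; ring))
    · exact Or.inr (Or.inr (Or.inr (by convert h using 1; ring)))

theorem odd_inv (k : ℕ) {a : ℤ} (ha : Odd a) : ∃ b : ℤ, Odd b ∧ (2 ^ k : ℤ) ∣ a * b - 1 := by
  obtain ⟨c, hc⟩ := ha
  obtain ⟨u, v, h⟩ : IsCoprime (2 ^ (k + 1) : ℤ) a := IsCoprime.pow_left ⟨-c, 1, by rw [hc]; ring⟩
  refine ⟨v, ?_, -u * 2, by linear_combination h⟩
  rcases Int.even_or_odd v with ⟨e, rfl⟩ | h1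
  · have : (2 : ℤ) * (u * 2 ^ k + e * a) = 1 := by linear_combination h
    omega
  · exact h1

theorem odd_pow_dvd (k : ℕ) {a : ℤ} (ha : Odd a) : (2 ^ (k + 3) : ℤ) ∣ a ^ 2 ^ (k + 1) - 1 := by
  induction k with
  | zero =>
    obtain ⟨c, rfl⟩ := ha
    obtain ⟨e, he⟩ := Int.even_mul_succ_self c
    exact ⟨e, by norm_num; linear_combination 4 * he⟩
  | succ k ih =>
    obtain ⟨c, hc⟩ := ih
    refine ⟨c + 2 ^ (k + 2) * c ^ 2, ?_⟩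
    rw [pow_succ 2 (k + 1), pow_mul, show a ^ 2 ^ (k + 1) = 2 ^ (k + 3) * c + 1 by linear_combination hc]
    ring

variable {Γ : Type*} [Group Γ]

theorem conj_pow_of {g c : Γ} {l : ℤ} (h : g * c * g⁻¹ = c ^ l) (k : ℕ) :
    g ^ k * c * (g ^ k)⁻¹ = c ^ l ^ k := by
  induction k with
  | zero => simp
  | succ k ih =>
    rw [pow_succ' g, show g * g ^ k * c * (g * g ^ k)⁻¹ = g * (g ^ k * c * (g ^ k)⁻¹) * g⁻¹ by group,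
      ih, ← conj_zpow, h, ← zpow_mul, pow_succ']

/-- Induction on the order of an element of a `2`-group. -/
theorem sq_induction {S : Subgroup Γ} (hS : IsPGroup 2 S) {C : Γ → Prop} (h1 : C 1)
    (h2 : ∀ u ∈ S, C (u * u) → C u) : ∀ u ∈ S, C u := by
  intro u hu
  obtain ⟨k, hk⟩ := hS ⟨u, hu⟩
  replace hk : u ^ 2 ^ k = 1 := congrArg Subtype.val hk
  induction k generalizing u with
  | zero => rwa [show u = 1 by simpa using hk]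
  | succ k ih => exact h2 u hu (ih _ (mul_mem hu hu) (by rw [← pow_two, ← pow_mul, ← pow_succ', hk]))

theorem exists_invol {S : Subgroup Γ} (hS : IsPGroup 2 S) {u : Γ} (hu : u ∈ S) (h1 : u ≠ 1) :
    ∃ k : ℕ, u ^ 2 ^ k ≠ 1 ∧ u ^ 2 ^ k * u ^ 2 ^ k = 1 := by
  refine sq_induction hS (C := fun u => u ≠ 1 → ∃ k : ℕ, u ^ 2 ^ k ≠ 1 ∧ u ^ 2 ^ k * u ^ 2 ^ k = 1)
    (fun h => absurd rfl h) (fun u _ ih h1 => ?_) u hu h1
  by_cases h2 : u * u = 1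
  · exact ⟨0, by simpa using h1, by simpa using h2⟩
  · obtain ⟨k, hk⟩ := ih h2
    exact ⟨k + 1, by rwa [pow_succ', pow_mul, pow_two]⟩

namespace QS

variable {n : ℕ} {S R T : Subgroup Γ} {ρ σ z : Γ} (h : QS n S R T ρ σ z)
include h

theorem ρ_mem : ρ ∈ R := (h.mem_R _).2 ⟨1, Or.inl (by simp)⟩
theorem σ_mem : σ ∈ R := (h.mem_R _).2 ⟨0, Or.inr (by simp)⟩
theorem z_mem : z ∈ R := (h.mem_R _).2 ⟨_, Or.inl h.z_def⟩
theorem zz : z * z = 1 := by rw [h.z_def, ← zpow_add, h.ord]; exact ⟨1, by ring⟩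
theorem z_inv : z⁻¹ = z := inv_eq_of_mul_eq_one_right h.zz

omit h in
theorem not_dvd {a : ℤ} (h0 : 0 < a) (h1 : a ≤ 4 * 2 ^ n) : ¬ (8 * 2 ^ n : ℤ) ∣ a := fun e => by
  have := Int.le_of_dvd h0 e
  omega

theorem z_ne : z ≠ 1 := by
  rw [h.z_def, Ne, h.ord]
  exact not_dvd (by positivity) le_rfl

theorem inj {i j : ℤ} : ρ ^ i = ρ ^ j ↔ (8 * 2 ^ n : ℤ) ∣ i - j := by
  rw [← h.ord, zpow_sub, mul_inv_eq_one]

theorem σ_mul (i : ℤ) : σ * ρ ^ i = ρ ^ (-i) * σ := by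
  rw [zpow_neg, ← inv_zpow, ← h.conj, conj_zpow, inv_mul_cancel_right]

theorem σ_inv : σ⁻¹ = z * σ := by
  rw [inv_eq_iff_mul_eq_one, ← h.sq, ← mul_assoc, ← mul_assoc, mul_assoc (σ * σ), h.sq, h.zz]

theorem ρ_ne : ρ ≠ ρ⁻¹ := fun e => by
  have h1 : ρ ^ (2 : ℤ) = 1 := by rw [zpow_two]; nth_rewrite 1 [e]; simp
  have : (0 : ℤ) < 2 ^ n := by positivity
  exact not_dvd (by norm_num) (by omega) ((h.ord 2).1 h1)

theorem ne (i j : ℤ) : ρ ^ i ≠ ρ ^ j * σ := fun e => h.ρ_ne (by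
  rw [← h.conj, show σ = ρ ^ (-j + i) by rw [zpow_add, e]; group]
  group)

theorem sq' (i : ℤ) : ρ ^ i * σ * (ρ ^ i * σ) = z := by
  rw [mul_assoc, ← mul_assoc σ, h.σ_mul, ← h.sq]; group

theorem ii : ρ ^ (2 * 2 ^ n : ℤ) * ρ ^ (2 * 2 ^ n : ℤ) = z := by
  rw [← zpow_add, h.z_def]; congr 1; ring

theorem invol {r : Γ} (hr : r ∈ R) (h2 : r * r = 1) : r = 1 ∨ r = z := by
  obtain ⟨i, rfl | rfl⟩ := (h.mem_R r).1 hr
  · rw [← zpow_add, h.ord] at h2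
    obtain ⟨c, hc⟩ := h2
    rw [h.z_def, h.ord, h.inj]
    obtain ⟨e, rfl | rfl⟩ := Int.even_or_odd' c
    exacts [Or.inl ⟨e, by linarith⟩, Or.inr ⟨e, by linarith⟩]
  · exact absurd ((h.sq' i).symm.trans h2) h.z_ne

theorem big {r : Γ} (hr : r ∈ R) (h2 : r * r ≠ z) : ∃ i : ℤ, r = ρ ^ i := by
  obtain ⟨i, rfl | rfl⟩ := (h.mem_R r).1 hr
  exacts [⟨i, rfl⟩, absurd (h.sq' i) h2]

theorem four {r : Γ} (hr : r ∈ R) (h2 : r * r = z) :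
    r = ρ ^ (2 * 2 ^ n : ℤ) ∨ r = (ρ ^ (2 * 2 ^ n : ℤ))⁻¹ ∨ ∃ i : ℤ, r = ρ ^ i * σ := by
  obtain ⟨i, rfl | rfl⟩ := (h.mem_R r).1 hr
  · rw [← zpow_add, h.z_def, h.inj] at h2
    obtain ⟨c, hc⟩ := h2
    rw [← zpow_neg, h.inj, h.inj]
    obtain ⟨e, rfl | rfl⟩ := Int.even_or_odd' c
    exacts [Or.inl ⟨e, by linarith⟩, Or.inr (Or.inl ⟨e + 1, by linarith⟩)]
  · exact Or.inr (Or.inr ⟨i, rfl⟩)

theorem le_iff {K : Subgroup Γ} : R ≤ K ↔ ρ ∈ K ∧ σ ∈ K :=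
  ⟨fun e => ⟨e h.ρ_mem, e h.σ_mem⟩, fun e r hr => by
    obtain ⟨i, rfl | rfl⟩ := (h.mem_R r).1 hr
    exacts [zpow_mem e.1 i, mul_mem (zpow_mem e.1 i) e.2]⟩

theorem cj_iff {g : Γ} {K : Subgroup Γ} : Cj g R K ↔ g * ρ * g⁻¹ ∈ K ∧ g * σ * g⁻¹ ∈ K :=
  h.le_iff (K := K.comap (MulAut.conj g).toMonoidHom)

theorem act' {g : Γ} (hg : Cj g R R) :
    ∃ a j : ℤ, Odd a ∧ g * ρ * g⁻¹ = ρ ^ a ∧ g * σ * g⁻¹ = ρ ^ j * σ := by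
  have hp : (0 : ℤ) < 2 ^ n := by positivity
  obtain ⟨a, ha⟩ := h.big (hg ρ h.ρ_mem) fun e => by
    have h1 : g * ρ ^ (4 : ℤ) * g⁻¹ = 1 := by
      rw [← h.zz, ← e, show (4 : ℤ) = 1 + 1 + (1 + 1) by norm_num]
      simp only [zpow_add, zpow_one, conj_mul]
    exact not_dvd (by norm_num) (by omega) ((h.ord 4).1 (by simpa using h1))
  obtain ⟨j, e | e⟩ := (h.mem_R _).1 (hg σ h.σ_mem)
  · refine absurd ?_ h.ρ_ne
    have h1 : g * (σ * ρ * σ⁻¹) * g⁻¹ = g * ρ * g⁻¹ := by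
      rw [show g * (σ * ρ * σ⁻¹) * g⁻¹ = g * σ * g⁻¹ * (g * ρ * g⁻¹) * (g * σ * g⁻¹)⁻¹ by group, e, ha]
      group
    rw [h.conj] at h1
    simpa using h1.symm
  refine ⟨a, j, ?_, ha, e⟩
  rcases Int.even_or_odd a with ⟨c, rfl⟩ | h1
  · refine absurd ?_ h.z_ne
    have h1 : g * z * g⁻¹ = 1 := by
      rw [h.z_def, ← conj_zpow, ha, ← zpow_mul, h.ord]; exact ⟨c, by ring⟩
    simpa using h1
  · exact h1

theorem act {s : Γ} (hs : s ∈ S) :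
    ∃ a j : ℤ, Odd a ∧ s * ρ * s⁻¹ = ρ ^ a ∧ s * σ * s⁻¹ = ρ ^ j * σ := h.act' (h.norm s hs)

theorem zc' {g : Γ} (hg : Cj g R R) : g * z = z * g := by
  rcases h.invol (hg z h.z_mem) (by rw [conj_mul, h.zz]; simp) with e | e
  · exact absurd (by simpa using e) h.z_ne
  · exact mul_inv_eq_iff_eq_mul.1 e

theorem zc {s : Γ} (hs : s ∈ S) : s * z = z * s := h.zc' (h.norm s hs)
theorem T_le : T ≤ S := fun t ht => ((h.mem_T t).1 ht).1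
theorem z_mem_T : z ∈ T :=
  (h.mem_T z).2 ⟨h.le h.z_mem, (h.zc (h.le h.ρ_mem)).symm, (h.zc (h.le h.σ_mem)).symm⟩

theorem T_comm {t r : Γ} (ht : t ∈ T) (hr : r ∈ R) : t * r = r * t :=
  (((h.le_iff (K := cS ⊤ t)).2 ⟨mem_cS_top.2 ((h.mem_T t).1 ht).2.1.symm,
    mem_cS_top.2 ((h.mem_T t).1 ht).2.2.symm⟩ hr).2).symm

theorem T_norm {s : Γ} (hs : s ∈ S) : Cj s T T := fun t ht => by
  have key : ∀ r ∈ R, s * t * s⁻¹ * r = r * (s * t * s⁻¹) := fun r hr => by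
    have := h.T_comm ht (h.norm _ (inv_mem hs) r hr)
    calc _ = s * (t * (s⁻¹ * r * s⁻¹⁻¹)) * s⁻¹ := by group
      _ = _ := by rw [this]; group
  exact (h.mem_T _).2 ⟨Cj.of_mem hs t (h.T_le ht), key ρ h.ρ_mem, key σ h.σ_mem⟩

theorem inf {r : Γ} (hr : r ∈ R) (ht : r ∈ T) : r = 1 ∨ r = z := by
  obtain ⟨i, rfl | rfl⟩ := (h.mem_R r).1 hr
  · refine h.invol hr ?_
    have := h.T_comm ht h.σ_mem
    rw [h.σ_mul, mul_left_inj] at this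
    nth_rewrite 1 [this]
    group
  · refine absurd ?_ h.ρ_ne
    have := h.T_comm ht h.ρ_mem
    rw [← h.conj, eq_mul_inv_iff_mul_eq]
    calc _ = ρ ^ (-i) * (ρ * (ρ ^ i * σ)) := by group
      _ = _ := by rw [← this]; group

theorem regen {a : ℤ} (ha : Odd a) (k : ℤ) : QS n S R T (ρ ^ a) (ρ ^ k * σ) z := by
  have e8 : (8 * 2 ^ n : ℤ) = 2 ^ (n + 3) := by ring
  obtain ⟨b, -, hb⟩ := odd_inv (n + 3) ha
  have h1 : (ρ ^ a) ^ b = ρ := by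
    rw [← zpow_mul]; nth_rewrite 2 [← zpow_one ρ]; rw [h.inj, e8]; exact hb
  have h2 : ∀ i : ℤ, ρ ^ i = (ρ ^ a) ^ (b * i) := fun i => by rw [zpow_mul, h1]
  refine ⟨h.pgrp, fun i => ?_, ?_, h.sq' k, ?_, fun g => ⟨fun hg => ?_, ?_⟩, h.le, h.norm,
    fun g => ⟨fun hg => ⟨h.T_le hg, h.T_comm hg (zpow_mem h.ρ_mem a),
      h.T_comm hg (mul_mem (zpow_mem h.ρ_mem k) h.σ_mem)⟩, fun ⟨h3, h4, h5⟩ => ?_⟩⟩
  · rw [← zpow_mul, h.ord, e8]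
    exact ⟨dvd_of_odd_mul ha, fun e => e.mul_left a⟩
  · obtain ⟨c, rfl⟩ := ha
    rw [← zpow_mul, h.z_def, h.inj]
    exact ⟨-c, by ring⟩
  · rw [mul_assoc (ρ ^ k), h.σ_mul]; group
  · obtain ⟨i, rfl | rfl⟩ := (h.mem_R g).1 hg
    · exact ⟨_, Or.inl (h2 i)⟩
    · exact ⟨b * (i - k), Or.inr (by rw [← h2]; group)⟩
  · rintro ⟨i, rfl | rfl⟩
    · exact zpow_mem (zpow_mem h.ρ_mem a) i
    · exact mul_mem (zpow_mem (zpow_mem h.ρ_mem a) i) (mul_mem (zpow_mem h.ρ_mem k) h.σ_mem)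
  · have h6 : Commute g ρ := h1 ▸ Commute.zpow_right h4 b
    refine (h.mem_T g).2 ⟨h3, h6, ?_⟩
    rw [← mul_assoc, (h6.zpow_right k).eq, mul_assoc, mul_assoc, mul_right_inj] at h5
    exact h5

theorem comm_mem {s t : Γ} (hs : s ∈ S) (ht : t ∈ S) :
    ∃ i : ℤ, ∃ c ∈ T, s * t * s⁻¹ * t⁻¹ = ρ ^ i * c := by
  have hu : s * t * s⁻¹ * t⁻¹ ∈ S := mul_mem (Cj.of_mem hs t ht) (inv_mem ht)
  obtain ⟨a, j, ⟨a1, rfl⟩, h1, h2⟩ := h.act hs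
  obtain ⟨b, k, ⟨b1, rfl⟩, h3, h4⟩ := h.act ht
  obtain ⟨c, l, -, h5, h6⟩ := h.act hu
  generalize hU : s * t * s⁻¹ * t⁻¹ = u at *
  have e : ∀ v, s * (t * v * t⁻¹) * s⁻¹ = u * (t * (s * v * s⁻¹) * t⁻¹) * u⁻¹ := fun v => by
    rw [← hU]; group
  have e1 := e ρ
  have e2 := e σ
  rw [h1, h3, ← conj_zpow, ← conj_zpow, h1, h3, ← conj_zpow, ← conj_zpow, h5] at e1
  simp only [← zpow_mul] at e1
  have h7 : ρ ^ c = ρ ^ (1 : ℤ) := by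
    rw [h.inj, show (8 * 2 ^ n : ℤ) = 2 ^ (n + 3) by ring] at e1 ⊢
    refine dvd_of_odd_mul (a := (2 * a1 + 1) * (2 * b1 + 1)) (Odd.mul ⟨a1, rfl⟩ ⟨b1, rfl⟩) ?_
    obtain ⟨v, hv⟩ := e1
    exact ⟨-v, by linear_combination -hv⟩
  rw [h7, zpow_one] at h5
  have key : ∀ {g : Γ} {a j : ℤ}, g * ρ * g⁻¹ = ρ ^ a → g * σ * g⁻¹ = ρ ^ j * σ → ∀ i : ℤ,
      g * (ρ ^ i * σ) * g⁻¹ = ρ ^ (a * i + j) * σ := fun {g a j} e1 e2 i => by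
    rw [← conj_mul, ← conj_zpow, e1, e2]; group
  rw [h2, h4, key h1 h2, key h3 h4, key (h5.trans (zpow_one ρ).symm) h6, mul_left_inj] at e2
  have h8 : ρ ^ l = ρ ^ (2 * (a1 * k - b1 * j)) := by
    rw [h.inj] at e2 ⊢
    obtain ⟨v, hv⟩ := e2
    exact ⟨-v, by linear_combination -hv⟩
  generalize a1 * k - b1 * j = i at h8
  refine ⟨i, ρ ^ (-i) * u, (h.mem_T _).2 ⟨mul_mem (zpow_mem (h.le h.ρ_mem) _) hu, ?_, ?_⟩, by group⟩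
  · rw [mul_assoc, mul_inv_eq_iff_eq_mul.1 h5]; group
  · rw [mul_assoc, mul_inv_eq_iff_eq_mul.1 h6, h8, ← mul_assoc σ, h.σ_mul]; group

theorem exists_RT : ∃ K : Subgroup Γ, K ≤ S ∧ ∀ u, u ∈ K ↔ ∃ r ∈ R, ∃ t ∈ T, u = r * t :=
  ⟨{ carrier := {u | ∃ r ∈ R, ∃ t ∈ T, u = r * t}
     one_mem' := ⟨1, one_mem _, 1, one_mem _, by simp⟩
     mul_mem' := by
      rintro _ _ ⟨r, hr, t, ht, rfl⟩ ⟨r', hr', t', ht', rfl⟩
      exact ⟨_, mul_mem hr hr', _, mul_mem ht ht', by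
        rw [mul_assoc, ← mul_assoc t, h.T_comm ht hr']; group⟩
     inv_mem' := by
      rintro _ ⟨r, hr, t, ht, rfl⟩
      exact ⟨_, inv_mem hr, _, inv_mem ht, by rw [← h.T_comm ht hr, mul_inv_rev]⟩ }, by
    rintro _ ⟨r, hr, t, ht, rfl⟩
    exact mul_mem (h.le hr) (h.T_le ht), fun _ => Iff.rfl⟩

theorem mem_Q8 {k : ℤ} {u : Γ} : u ∈ Q8 n ρ σ k ↔
    ∃ j : ℤ, u = ρ ^ (2 * 2 ^ n * j) ∨ u = ρ ^ (2 * 2 ^ n * j + k) * σ := by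
  have h1 : ρ ^ (2 * 2 ^ n : ℤ) ∈ Q8 n ρ σ k := subset_closure (by simp)
  have h2 : ρ ^ k * σ ∈ Q8 n ρ σ k := subset_closure (by simp)
  constructor
  · intro hu
    induction hu using closure_induction with
    | mem u hu =>
      rcases hu with rfl | rfl
      exacts [⟨1, Or.inl (by simp)⟩, ⟨0, Or.inr (by simp)⟩]
    | one => exact ⟨0, Or.inl (by simp)⟩
    | mul u v _ _ hu hv =>
      obtain ⟨i, rfl | rfl⟩ := hu <;> obtain ⟨j, rfl | rfl⟩ := hv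
      · exact ⟨i + j, Or.inl (by group)⟩
      · exact ⟨i + j, Or.inr (by group)⟩
      · exact ⟨i - j, Or.inr (by rw [mul_assoc, h.σ_mul]; group)⟩
      · refine ⟨i - j + 2, Or.inl ?_⟩
        rw [mul_assoc, ← mul_assoc σ, h.σ_mul, mul_assoc _ σ, h.sq, h.z_def]; group
    | inv u _ hu =>
      obtain ⟨i, rfl | rfl⟩ := hu
      · exact ⟨-i, Or.inl (by group)⟩
      · refine ⟨i + 2, Or.inr ?_⟩
        rw [mul_inv_rev, h.σ_inv, ← zpow_neg, mul_assoc, h.σ_mul, h.z_def]; group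
  · rintro ⟨j, rfl | rfl⟩
    · rw [zpow_mul]; exact zpow_mem h1 j
    · rw [zpow_add, zpow_mul, mul_assoc]; exact mul_mem (zpow_mem h1 j) h2

theorem Q8_le (k : ℤ) : Q8 n ρ σ k ≤ R := fun u hu =>
  let ⟨_, e⟩ := h.mem_Q8.1 hu
  (h.mem_R u).2 (e.elim (fun e => ⟨_, Or.inl e⟩) fun e => ⟨_, Or.inr e⟩)

end QS

end H93.QW
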