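import Cfsg.Agent.Lib.Fusion.Rank22
import Cfsg.Agent.Lib.Fusion.GroupSub
import Cfsg.Agent.Lib.QW.Api
import Cfsg.Agent.Lib.QW.Bas

/-!
# The transfer condition, and the passage from a fusion system to a finite group
-/

set_option autoImplicit false

namespace H93.QW

universe u

open Subgroup Cfsg Cfsg.FusionSystem H90

theorem tr_of {Γ : Type u} [Group Γ] [Finite Γ] {S : Subgroup Γ} (hS : IsPGroup 2 S)
    (hF : (fusionSystemOfSubgroup ⊤ S le_top).IsSaturated 2)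
    (hf : S ≤ (fusionSystemOfSubgroup ⊤ S le_top).focalSubgroup) : Tr S := by
  classical
  intro M hM i hi hi2 hiM
  by_contra hn
  replace hn : ∀ g, Cj g (cS S i) S → i * (g * i * g⁻¹) ∈ M := fun g hg => by
    by_contra h; exact hn ⟨g, hg, h⟩
  haveI : (M.subgroupOf S).Normal := ⟨fun c hc s => by
    simpa [mem_subgroupOf, mul_assoc] using mul_mem (hM _ s.2 _ c.2) hc⟩
  letI : CommGroup (S ⧸ M.subgroupOf S) := { QuotientGroup.Quotient.group _ with
    mul_comm := fun a b => by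
      obtain ⟨a, rfl⟩ := QuotientGroup.mk_surjective a
      obtain ⟨b, rfl⟩ := QuotientGroup.mk_surjective b
      refine QuotientGroup.eq.2 ?_
      simpa [mem_subgroupOf, mul_assoc] using hM _ (inv_mem b.2) _ (inv_mem a.2) }
  obtain ⟨K, _, _, ⟨pk⟩⟩ := H92.exists_park hS hF
  let l : Γ → S ⧸ M.subgroupOf S := ext (QuotientGroup.mk' _)
  have hl : H92.MulOn S l := fun x hx y hy => ext_mul hx hy
  have hl1 : ∀ x ∈ S, l x = 1 ↔ x ∈ M := fun x hx => by
    simp only [l, ext_of_mem hx]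
    exact QuotientGroup.eq_one_iff _
  have hε : l i * l i = 1 := by rw [← hl i hi i hi, hi2]; exact ext_one
  obtain ⟨Q, σ, hQ, hσN, hσ, -, hσC⟩ := exists_normalizer_map hS hF (zpowers_le.2 hi)
  obtain ⟨-, -, g0, -, e0⟩ := map_subgroup.1 hσN
  have hi0 : i ∈ normalizerIn S (zpowers i) := le_normalizerIn (zpowers_le.2 hi) (mem_zpowers i)
  have hQe : Q = zpowers (σ i) := by
    rw [← hσ.im_eq, im_congr (g := cj g0) fun x hx => e0 x (le_normalizerIn (zpowers_le.2 hi) hx),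
      e0 i hi0]
    exact (iso_zpowers (H := ⊤) (hSH := le_top) hi trivial (e0 i hi0 ▸ hσN.mem hi0)).im_eq
  subst hQe
  set a := σ i
  have haa : a * a = 1 := by rw [← hσN.map_mul hi0 hi0, hi2, hσN.map_one]
  have haS : a ∈ S := hσN.mem hi0
  have hz : ∀ x ∈ zpowers a, x = 1 ∨ x = a := by
    rintro _ ⟨n, rfl⟩
    exact H41.zpow_eq_or_of_mul_self haa n
  have ha1 : a ≠ 1 := fun e => hiM ((hσN.map_eq_one_iff hi0).1 e ▸ one_mem M)
  set N := normalizerIn S (zpowers a)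
  have hNS : N ≤ S := inf_le_left
  have hN : ∀ g ∈ N, g * a * g⁻¹ = a := fun g hg =>
    (hz _ (conj_mem_of_normalizerIn hg (mem_zpowers a))).resolve_left fun e =>
      ha1 (by simpa using e)
  have hAS : zpowers a ≤ S := zpowers_le.2 haS
  have hAN : zpowers a ≤ N := le_normalizerIn hAS
  have h1 : pk.V hl (pk.j a) = 1 := (H92.Park.inv_V_j hl _ _ hσ.1 i (mem_zpowers i)).trans
    (H92.Park.V_j_focal (pk := pk) hl (hf hi))
  have hc := pk.isSec_out.coc hl
  have hsub : pk.fix (pk.jm (zpowers a)) ⊆ pk.all := fun _ _ => H92.Park.mem_all _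
  have hinv : ∀ u ∈ pk.jm N, ∀ y ∈ pk.fix (pk.jm (zpowers a)),
      u • y ∈ pk.fix (pk.jm (zpowers a)) := fun u hu y hy => by
    obtain ⟨x, hx, rfl⟩ := (pk.mem_jm hNS).1 hu
    refine H92.Park.smul_mem_fix ?_ hy
    rw [← pk.ext_ι hx.1]
    exact (ext_mem_normalizer_iff pk.ι_injective hAS hx.1).2 hx.2
  rw [H92.Park.V_eq pk.isSec_out, ← Finset.prod_sdiff hsub, (hc.mono
    (H' := pk.jm (zpowers a)) le_top Finset.sdiff_subset ?_).prod_eq_one ?_
    (pk.j_mem_jm hAS (mem_zpowers a)), one_mul,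
    H92.prod_eq_prod_fixed (pk.isPGroup_jm (hS.to_le hNS)) hinv (T₀ := pk.fix (pk.jm N)) ?_ ?_
      ?_, Finset.prod_congr rfl (g := fun _ => l i) ?_, Finset.prod_const] at h1
  · obtain ⟨k, hk⟩ := Nat.odd_iff.2 (Nat.two_dvd_ne_zero.1
      (pk.not_dvd_card_fix (pk.isPGroup_jm (hS.to_le hNS))))
    rw [hk, pow_succ, pow_mul, pow_two, hε, one_pow, one_mul] at h1
    exact hiM ((hl1 i hi).1 h1)
  · intro y hy
    have hy' := (H92.Park.mem_fix_jm hNS).1 hy
    have hτ := pk.isSec_out.map_tw hNS hy'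
    obtain ⟨-, h2, g1, -, e1⟩ := map_subgroup.1 hτ
    have haN := hAN (mem_zpowers a)
    rw [H92.Park.c_j_fix (hy' a haN)]
    have h3 := hn (g1 * g0) fun c hc => by
      have h4 : c ∈ centralizerIn S (zpowers i) := cent_zpowers S i ▸ hc
      have h5 := centralizerIn_le_normalizerIn _ _ (hσC c h4)
      have h6 := h2 _ h5
      rw [e1 _ h5, e0 c (centralizerIn_le_normalizerIn _ _ h4)] at h6
      simpa [mul_assoc] using h6
    rw [show g1 * g0 * i * (g1 * g0)⁻¹ = g1 * (g0 * i * g0⁻¹) * g1⁻¹ by group, ← e0 i hi0,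
      ← e1 a haN, ← hl1 _ (mul_mem hi (h2 a haN)), hl i hi _ (h2 a haN)] at h3
    exact mul_left_cancel (h3.trans hε.symm)
  · intro y
    rw [H92.Park.mem_fix_jm hNS, H92.Park.mem_fix_jm hAS]
    refine ⟨fun h => ⟨fun x hx => h x (hAN hx), fun u hu => ?_⟩,
      fun h x hx => h.2 _ (pk.j_mem_jm hNS hx)⟩
    obtain ⟨x, hx, rfl⟩ := (pk.mem_jm hNS).1 hu
    exact h x hx
  · intro u hu y hy
    obtain ⟨x, hx, rfl⟩ := (pk.mem_jm hNS).1 hu
    have := hc.conj (g := pk.j a) (k := pk.j x) trivial trivial (hsub hy)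
      ((H92.Park.mem_fix_jm hAS).1 hy a (mem_zpowers a))
    rwa [← pk.mulOn_j.conj hx.1 haS, hN x hx] at this
  · intro y hy
    have hy' := (H92.Park.mem_fix_jm hAS).1 hy
    have hτ := pk.isSec_out.map_tw hAS hy'
    have ha := mem_zpowers a
    rw [H92.Park.c_j_fix (hy' a ha), pow_two, ← hl _ (hτ.mem ha) _ (hτ.mem ha), ← hτ.map_mul ha ha,
      haa, hτ.map_one]
    exact ext_one
  · intro u hu y hy
    obtain ⟨x, hx, rfl⟩ := (pk.mem_jm hAS).1 hu
    refine Finset.mem_sdiff.2 ⟨H92.Park.mem_all _, fun h => (Finset.mem_sdiff.1 hy).2 ?_⟩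
    have := H92.Park.mem_fix.1 h _ (inv_mem hu)
    rw [inv_smul_smul] at this
    rwa [this]
  · intro u hu y hy e
    obtain ⟨x, hx, rfl⟩ := (pk.mem_jm hAS).1 hu
    rcases hz x hx with rfl | rfl
    · rw [pk.j_one]; exact hc.one (H92.Park.mem_all _)
    · refine absurd ((H92.Park.mem_fix_jm hAS).2 fun x hx => ?_) (Finset.mem_sdiff.1 hy).2
      rcases hz x hx with rfl | rfl
      · rw [pk.j_one, one_smul]
      · exact e

variable {Ω : Type*} [Group Ω] {S : Subgroup Ω} {F : FusionSystem S} {Γ : Type*} [Group Γ]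
  {ι : S →* Γ} (hι : F.IsRealizedBy ι)
include hι

theorem real_comp {G : Type*} [Group G] {κ : ι.range →* G}
    (hκ : (fusionSystemOfSubgroup ⊤ ι.range le_top).IsRealizedBy κ) :
    F.IsRealizedBy (κ.comp ι.rangeRestrict) ∧ (κ.comp ι.rangeRestrict).range = κ.range := by
  have e : ∀ x ∈ S, ext (κ.comp ι.rangeRestrict) x = ext κ (ext ι x) := fun x hx => by
    rw [ext_of_mem hx, ext_of_mem (ext_mem_range x)]
    exact congrArg κ (Subtype.ext (ext_of_mem hx).symm)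
  refine ⟨H92.isRealizedBy_of_map (hκ.1.comp (MonoidHom.rangeRestrict_injective_iff.2 hι.1))
    (fun P f hf => ?_) fun P f g hP h1 h2 => ?_, by
      rw [MonoidHom.range_comp, MonoidHom.range_eq_top.2 ι.rangeRestrict_surjective,
        ← MonoidHom.range_eq_map]⟩
  · obtain ⟨hP, h1, g, h2⟩ := (H92.map_iff_real hι).1 hf
    obtain ⟨-, -, k, h3⟩ := (H92.map_iff_real hκ).1 (mapc (imageAlong_le_range P) (mem_top g)
      fun y hy => by
        obtain ⟨x, hx, rfl⟩ := (mem_imageAlong hP).1 hy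
        exact h2 x hx ▸ ext_mem_range _)
    exact ⟨k, fun x hx => by
      rw [e _ (h1 x hx), e _ (hP hx), h2 x hx]; exact h3 _ (ext_mem_imageAlong hP hx)⟩
  · obtain ⟨φ, hφ, h3⟩ := H92.exists_map_conj hκ (imageAlong_le_range P) g fun y hy => by
      obtain ⟨x, hx, rfl⟩ := (mem_imageAlong hP).1 hy
      rw [← e x (hP hx), ← h2 x hx, e _ (h1 x hx)]
      exact ext_mem_range _
    obtain ⟨-, h4, k, -, h5⟩ := map_subgroup.1 hφ
    refine (H92.map_iff_real hι).2 ⟨hP, h1, k, fun x hx => ?_⟩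
    have hx' := ext_mem_imageAlong (ι := ι) hP hx
    rw [← h5 _ hx']
    exact ext_inj hκ.1 (ext_mem_range _) (h4 _ hx') (by
      rw [h3 _ hx', ← e x (hP hx), ← h2 x hx, e _ (h1 x hx)])

theorem focal_range (hf : S ≤ F.focalSubgroup) :
    ι.range ≤ (fusionSystemOfSubgroup ⊤ ι.range le_top).focalSubgroup := fun y hy => by
  obtain ⟨x, hx, rfl⟩ := mem_range_iff_ext.1 hy
  refine (mem_preimageAlong.1 (focalSubgroup_le_iff.2 (fun P f hf u hu => ?_) (hf hx))).2
  obtain ⟨h1, h2, g, e⟩ := (H92.map_iff_real hι).1 hf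
  refine mem_preimageAlong.2 ⟨mul_mem (inv_mem (h1 hu)) (h2 u hu), ?_⟩
  rw [ext_mul (inv_mem (h1 hu)) (h2 u hu), ext_inv (h1 hu), e u hu]
  exact (iso_zpowers (ext_mem_range u) (mem_top g) (e u hu ▸ ext_mem_range _)).1.mem_focal
    (mem_zpowers _)

theorem sc_preimage {P : Subgroup Γ} (h : SC ⊤ ι.range P) :
    F.StronglyClosed (preimageAlong ι P) :=
  stronglyClosed_iff_map.2 ⟨preimageAlong_le P, fun Q f hf x hx hxP => by
    obtain ⟨-, h2, g, e⟩ := (H92.map_iff_real hι).1 hf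
    refine mem_preimageAlong.2 ⟨h2 x hx, ?_⟩
    rw [e x hx]
    exact h g trivial _ (mem_preimageAlong.1 hxP).2 (e x hx ▸ ext_mem_range _)⟩

theorem qd_preimage {P : Subgroup Γ} (hP : P ≤ ι.range) (h : IsQuasiDihedral P) :
    IsQuasiDihedral (preimageAlong ι P) := by
  let e := ((imageEquiv hι.1 (preimageAlong_le P)).trans
    (MulEquiv.subgroupCongr (imageAlong_preimageAlong hP))).symm
  obtain ⟨n, h1, h2, x, y, h3, h4, h5⟩ := h
  exact ⟨n, h1, (Nat.card_congr e.toEquiv).symm.trans h2, e x, e y, (e.orderOf_eq x).trans h3,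
    (e.orderOf_eq y).trans h4, by rw [← map_inv, ← map_mul, ← map_mul, h5, map_pow]⟩

variable [Finite S]

theorem sat_range (hS : IsPGroup 2 S) (hF : F.IsSaturated 2) :
    (fusionSystemOfSubgroup ⊤ ι.range le_top).IsSaturated 2 := by
  obtain ⟨θ, h1, -, -⟩ := H91.exists_quot_of_real hι (groupFusionSystem_isRealizedBy ι.range)
    (range_subtype _).symm
  exact H91.group_eq_subgroup ι.range ▸ h1.isSaturated hS hF

theorem sc_cent {R : Subgroup Ω} {y : Ω} (hy : y ∈ centralizerIn S R) (hR : R ≤ S)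
    (h : (csys F (zpowers y) (zpowers_le.2 hy.1)).StronglyClosed R) :
    SC (cS ⊤ (ext ι y)) ι.range (imageAlong ι R) := fun g hg u hu h1 => by
  obtain ⟨r, hr, rfl⟩ := (mem_imageAlong hR).1 hu
  have h2 : g * ext ι y * g⁻¹ = ext ι y := mul_inv_eq_iff_eq_mul.2 hg.2
  have hP : zpowers r ⊔ zpowers y ≤ S := sup_le (zpowers_le.2 (hR hr)) (zpowers_le.2 hy.1)
  obtain ⟨f, hf, e⟩ := H92.exists_map_conj hι hP g fun x hx =>
    (mem_preimageAlong.1 (sup_le (c := preimageAlong ι (ι.range.comap (MulAut.conj g).toMonoidHom))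
      (zpowers_le.2 (mem_preimageAlong.2 ⟨hR hr, h1⟩))
      (zpowers_le.2 (mem_preimageAlong.2 ⟨hy.1, show g * ext ι y * g⁻¹ ∈ ι.range from
        h2.symm ▸ ext_mem_range y⟩)) hx)).2
  obtain ⟨τ, hτ, e'⟩ := hf.exists_perm
  have hr' := mem_sup_left (T := zpowers y) (mem_zpowers r)
  have hy' := mem_sup_right (S := zpowers r) (mem_zpowers y)
  have h3 : Map (csys F (zpowers y) (zpowers_le.2 hy.1)) (zpowers r) f :=
    map_csys.2 (cmap_iff.2 ⟨zpowers_le.2 (h.1 hr), τ, hτ, fun x hx => e' x (mem_sup_left hx), by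
      rintro _ ⟨i, rfl⟩
      rw [hτ.map_zpow hy', e' y hy', ext_inj hι.1 (hf.mem hy') hy.1 ((e y hy').trans h2)]⟩)
  rw [← e r hr']
  exact ext_mem_imageAlong hR (h3.mem_of_stronglyClosed h (mem_zpowers r) hr)

end H93.QW
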