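import Cfsg.Agent.Lib.Syl2.Oct
import Cfsg.Agent.Lib.Fusion.Real2
import Cfsg.Agent.Lib.QW.GMb

/-!
# The normal form is realised in `G₂(p)`
-/

set_option autoImplicit false

namespace H93.QW

open Subgroup Matrix H82.Oct Cfsg.Lie

namespace G2m

variable {K : Type*} [Field K]

/-- `g` is the two-sided action of the pair `(P, Q)` -/
def A (g : G2 K) (P Q : Matrix (Fin 2) (Fin 2) K) : Prop :=
  ∃ h : GL (Fin 2) K × GL (Fin 2) K, g.1 = rho K h ∧ h.1.val = P ∧ h.2.val = Q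

variable {g h : G2 K} {P Q P' Q' : Matrix (Fin 2) (Fin 2) K}

theorem A.mul (h1 : A g P Q) (h2 : A h P' Q') : A (g * h) (P * P') (Q * Q') := by
  obtain ⟨a, e1, rfl, rfl⟩ := h1
  obtain ⟨b, e2, rfl, rfl⟩ := h2
  exact ⟨a * b, by rw [map_mul, ← e1, ← e2]; rfl, rfl, rfl⟩

theorem A.eq (h1 : A g P Q) (h2 : A h P' Q') (u : Kˣ) (e : P = (u : K) • P')
    (e' : Q = (u : K) • Q') : g = h := by
  obtain ⟨a, e1, rfl, rfl⟩ := h1
  obtain ⟨b, e2, rfl, rfl⟩ := h2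
  have : a = (GeneralLinearGroup.scalar (Fin 2) u, GeneralLinearGroup.scalar (Fin 2) u) * b := by
    refine Prod.ext (Units.ext ?_) (Units.ext ?_)
    · rw [e]; simp [scalar_apply, ← smul_eq_diagonal_mul]
    · rw [e']; simp [scalar_apply, ← smul_eq_diagonal_mul]
  refine Subtype.ext ?_
  rw [e1, e2, this, map_mul, rho_scalar, one_mul]

theorem A.one : A (1 : G2 K) 1 1 := ⟨1, (map_one _).symm, rfl, rfl⟩

theorem A.ex (e : P.det = Q.det) (h0 : P.det ≠ 0) : ∃ g : G2 K, A g P Q :=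
  ⟨⟨rho K (GeneralLinearGroup.mkOfDetNeZero P h0, GeneralLinearGroup.mkOfDetNeZero Q (e ▸ h0)),
    rho_mem (Units.ext e)⟩, _, rfl, rfl, rfl⟩

theorem A.of_one (h1 : A (1 : G2 K) P Q) : ∃ u : K, P = u • 1 ∧ Q = u • 1 := by
  obtain ⟨a, e1, rfl, rfl⟩ := h1
  obtain ⟨u, rfl⟩ := exists_of_rho_eq_one e1.symm
  exact ⟨u, by simp [scalar_apply, smul_one_eq_diagonal], by
    simp [scalar_apply, smul_one_eq_diagonal]⟩

theorem A.app (h1 : A g P Q) (e : P * P' = 1) (v : Fin 8 → K) :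
    cdE K (g.1.val *ᵥ v) = (P * (cdE K v).1 * P', Q * (cdE K v).2 * P') := by
  obtain ⟨a, e1, rfl, rfl⟩ := h1
  rw [e1, cdE_rho, act_apply, Units.inv_eq_of_mul_eq_one_right e]

theorem A.app' (h1 : A g P Q) (v : Fin 8 → K) :
    (cdE K (g.1.val *ᵥ v)).1 * P = P * (cdE K v).1 := by
  obtain ⟨a, e1, rfl, rfl⟩ := h1
  rw [e1, cdE_rho, act_apply, Units.inv_mul_cancel_right]

theorem ex_tor (p : Kˣ × Kˣ) : ∃ g : G2 K, A g !![1, 0; 0, p.1 * p.2] !![p.2, 0; 0, p.1] :=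
  A.ex (by simp [mul_comm]) (by simp)

/-- the split torus -/
noncomputable def tor (K : Type*) [Field K] : Kˣ × Kˣ →* G2 K :=
  MonoidHom.mk' (fun p => (ex_tor p).choose) fun p q =>
    (ex_tor _).choose_spec.eq ((ex_tor p).choose_spec.mul (ex_tor q).choose_spec) 1
      (by simp [mul_mul_mul_comm]) (by simp)

theorem A_tor (a b : Kˣ) : A (tor K (a, b)) !![1, 0; 0, a * b] !![b, 0; 0, a] :=
  (ex_tor (a, b)).choose_spec

theorem tor_eq_one {a b : Kˣ} (e : tor K (a, b) = 1) : a = 1 ∧ b = 1 := by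
  obtain ⟨u, e1, e2⟩ := (e ▸ A_tor a b).of_one
  have h1 := congrFun (congrFun e1 0) 0
  have h2 := congrFun (congrFun e2 0) 0
  have h3 := congrFun (congrFun e2 1) 1
  simp at h1 h2 h3
  exact ⟨Units.ext (h3.trans h1.symm), Units.ext (h2.trans h1.symm)⟩

theorem tor_app (a b : Kˣ) (v : Fin 8 → K) : (tor K (a, b)).1.val *ᵥ v =
    ![v 0, (a⁻¹ * b⁻¹ : Kˣ) * v 1, b * v 2, a * v 3, a * b * v 4, (b⁻¹ : Kˣ) * v 5,
      (a⁻¹ : Kˣ) * v 6, v 7] := by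
  refine (cdE K).injective ?_
  rw [(A_tor a b).app (P' := !![1, 0; 0, ((a⁻¹ * b⁻¹ : Kˣ) : K)]) (by
    ext i j; fin_cases i <;> fin_cases j <;> simp; field_simp)]
  refine Prod.ext ?_ ?_ <;> ext i j <;> fin_cases i <;> fin_cases j <;>
    simp [cdE_apply, Matrix.mul_apply] <;> field_simp

theorem d_app {d : G2 K} (hd : A d !![0, 1; -1, 0] !![0, 1; -1, 0]) (v : Fin 8 → K) :
    d.1.val *ᵥ v = ![v 7, -v 4, -v 5, -v 6, -v 1, -v 2, -v 3, v 0] := by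
  refine (cdE K).injective ?_
  rw [hd.app (P' := !![0, -1; 1, 0]) (by ext i j; fin_cases i <;> fin_cases j <;> simp)]
  refine Prod.ext ?_ ?_ <;> ext i j <;> fin_cases i <;> fin_cases j <;>
    simp [cdE_apply, Matrix.mul_apply]

theorem ex_a : ∃ a : G2 K, ∀ v, a.1.val *ᵥ v = ![v 0, v 3, v 1, v 2, v 6, v 4, v 5, v 7] := by
  let π : Equiv.Perm (Fin 8) := ⟨![0, 3, 1, 2, 6, 4, 5, 7], ![0, 2, 3, 1, 5, 6, 4, 7],
    by decide, by decide⟩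
  have h : ∀ v : Fin 8 → K, ((permMatrixHom (R := K)).toHomUnits π⁻¹).val *ᵥ v =
      ![v 0, v 3, v 1, v 2, v 6, v 4, v 5, v 7] := fun v => by
    change (π⁻¹⁻¹).permMatrix K *ᵥ v = _
    rw [inv_inv, permMatrix_mulVec]
    ext i; fin_cases i <;> rfl
  refine ⟨⟨_, mem_G2.2 fun x y => ?_⟩, h⟩
  rw [h, h, h]
  ext i; fin_cases i <;> simp [mu_apply, zm_eq] <;> ring

theorem g_ext (e : ∀ v, g.1.val *ᵥ v = h.1.val *ᵥ v) : g = h :=
  Subtype.ext (Units.ext (toLin'.injective (LinearMap.ext e)))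

theorem mul_app (g h : G2 K) (v : Fin 8 → K) :
    (g * h).1.val *ᵥ v = g.1.val *ᵥ (h.1.val *ᵥ v) := by
  rw [mulVec_mulVec]; rfl

theorem a_tor {a : G2 K} (ha : ∀ v, a.1.val *ᵥ v = ![v 0, v 3, v 1, v 2, v 6, v 4, v 5, v 7])
    (s t : Kˣ) : a * tor K (s, t) * a⁻¹ = tor K (t, s⁻¹ * t⁻¹) := by
  rw [mul_inv_eq_iff_eq_mul]
  refine g_ext fun v => ?_
  rw [mul_app, mul_app, ha, ha, tor_app, tor_app]
  ext i; fin_cases i <;> simp <;> field_simp <;> simp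

theorem a_d {a d : G2 K} (ha : ∀ v, a.1.val *ᵥ v = ![v 0, v 3, v 1, v 2, v 6, v 4, v 5, v 7])
    (hd : A d !![0, 1; -1, 0] !![0, 1; -1, 0]) : a * d = d * a := by
  refine g_ext fun v => ?_
  rw [mul_app, mul_app, ha, ha, d_app hd, d_app hd]
  ext i; fin_cases i <;> simp

/-- `g` fixes the pairs with trivial second component -/
def Fx (z g : G2 K) : Prop := ∀ v : Fin 8 → K, z.1.val *ᵥ v = v → g.1.val *ᵥ v = v

theorem Fx.conj {z u : G2 K} (hu : Fx z u) (hg : g * z = z * g) : Fx z (g * u * g⁻¹) := by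
  intro v hv
  have e : z * g⁻¹ = g⁻¹ * z := by
    rw [mul_inv_eq_iff_eq_mul, mul_assoc, ← hg, inv_mul_cancel_left]
  rw [mul_app, mul_app, hu _ (by rw [← mul_app, e, mul_app, hv]), ← mul_app, mul_inv_cancel]
  exact one_mulVec v

theorem A.fx (h1 : A g P Q) (h2 : (2 : K) ≠ 0) {z : G2 K} (hz : A z 1 (-1)) (hP : P = 1) :
    Fx z g := by
  subst hP
  intro v hv
  have e := congrArg Prod.snd (hz.app (mul_one 1) v)
  rw [hv] at e
  simp only [mul_one, neg_mul, one_mul] at e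
  have e0 : (cdE K v).2 = 0 := by
    have : (2 : K) • (cdE K v).2 = 0 := by rw [two_smul]; exact add_eq_zero_iff_eq_neg.2 e
    exact (smul_eq_zero.1 this).resolve_left h2
  refine (cdE K).injective ?_
  rw [h1.app (mul_one 1)]
  exact Prod.ext (by simp) (by simp [e0])

theorem A.comm {z : G2 K} (hz : A z 1 (-1)) (h1 : A g P Q) (hg : Fx z g)
    (M : Matrix (Fin 2) (Fin 2) K) : M * P = P * M := by
  have e : cdE K ((cdE K).symm (M, 0)) = (M, 0) := (cdE K).apply_symm_apply _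
  have := h1.app' ((cdE K).symm (M, 0))
  rwa [hg _ ((cdE K).injective (by rw [hz.app (mul_one 1), e]; simp)), e] at this

section

variable {ι ζ : Kˣ} {w d σ τ : G2 K}

theorem gr1 (h2 : (2 : K) ≠ 0) (hi : (ι : K) * ι = -1) (hσ : A σ !![1, 0; 0, 1] !![0, -1; 1, 0])
    (hτ : A τ !![0, -1; 1, 0] !![-1, 0; 0, -1]) : ∃ g : G2 K, g * tor K (ι⁻¹, ι) * g⁻¹ = σ ∧
      g * σ * g⁻¹ = tor K (ι⁻¹, ι) * σ ∧ g * tor K (ζ⁻¹, ζ⁻¹) = tor K (ζ⁻¹, ζ⁻¹) * g ∧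
      g * τ = τ * g := by
  have hi' : (ι : K)⁻¹ = -ι := inv_eq_of_mul_eq_one_right (by rw [mul_neg, hi, neg_neg])
  obtain ⟨g, hg⟩ := A.ex (P := !![(2 : K), 0; 0, 2])
    (Q := !![(1 : K) + ι, (-1 : K) - ι; (1 : K) - ι, (1 : K) - ι])
    (by simp; linear_combination 2 * hi) (by simp [h2])
  refine ⟨g, ?_, ?_, ?_, ?_⟩
  · rw [mul_inv_eq_iff_eq_mul]
    refine (hg.mul (A_tor _ _)).eq (hσ.mul hg) 1 ?_ ?_ <;>
      ext i j <;> fin_cases i <;> fin_cases j <;> simp [hi'] <;> grind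
  · rw [mul_inv_eq_iff_eq_mul]
    refine (hg.mul hσ).eq (((A_tor _ _).mul hσ).mul hg) 1 ?_ ?_ <;>
      ext i j <;> fin_cases i <;> fin_cases j <;> simp [hi'] <;> grind
  · refine (hg.mul (A_tor _ _)).eq ((A_tor _ _).mul hg) 1 ?_ ?_ <;> simp [mul_comm]
  · refine (hg.mul hτ).eq (hτ.mul hg) 1 ?_ ?_ <;> simp

theorem gr2 (h2 : (2 : K) ≠ 0) (hi : (ι : K) * ι = -1) (hσ : A σ !![1, 0; 0, 1] !![0, -1; 1, 0])
    (hτ : A τ !![0, -1; 1, 0] !![-1, 0; 0, -1]) : ∃ g : G2 K, g * tor K (ι⁻¹, ι⁻¹) * g⁻¹ = τ ∧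
      g * τ * g⁻¹ = tor K (ι⁻¹, ι⁻¹) * τ ∧ g * tor K (ζ⁻¹, ζ) = tor K (ζ⁻¹, ζ) * g ∧
      g * σ = σ * g := by
  have hi' : (ι : K)⁻¹ = -ι := inv_eq_of_mul_eq_one_right (by rw [mul_neg, hi, neg_neg])
  obtain ⟨g, hg⟩ := A.ex (P := !![(1 : K) + ι, (1 : K) + ι; (-1 : K) + ι, (1 : K) - ι])
    (Q := !![(2 : K), 0; 0, 2]) (by simp; linear_combination -2 * hi) (by
      rw [det_fin_two_of, show ((1 : K) + ι) * (1 - ι) - (1 + ι) * (-1 + ι) = (2 * 2 : K) by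
        linear_combination -2 * hi]
      exact mul_ne_zero h2 h2)
  refine ⟨g, ?_, ?_, ?_, ?_⟩
  · rw [mul_inv_eq_iff_eq_mul]
    refine (hg.mul (A_tor _ _)).eq (hτ.mul hg) ι ?_ ?_ <;>
      ext i j <;> fin_cases i <;> fin_cases j <;> simp [hi'] <;> grind
  · rw [mul_inv_eq_iff_eq_mul]
    refine (hg.mul hτ).eq (((A_tor _ _).mul hτ).mul hg) ι ?_ ?_ <;>
      ext i j <;> fin_cases i <;> fin_cases j <;> simp [hi'] <;> grind
  · refine (hg.mul (A_tor _ _)).eq ((A_tor _ _).mul hg) 1 ?_ ?_ <;> simp [mul_comm]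
  · refine (hg.mul hσ).eq (hσ.mul hg) 1 ?_ ?_ <;> simp

theorem d_tor (hd : A d !![0, 1; -1, 0] !![0, 1; -1, 0]) (s t : Kˣ) :
    d * tor K (s, t) * d⁻¹ = (tor K (s, t))⁻¹ := by
  rw [mul_inv_eq_iff_eq_mul, ← map_inv]
  refine (hd.mul (A_tor s t)).eq ((A_tor s⁻¹ t⁻¹).mul hd) (s * t) ?_ ?_ <;>
    ext i j <;> fin_cases i <;> fin_cases j <;> simp <;> field_simp

theorem A_z : A (tor K (-1, -1)) 1 (-1) := by
  convert A_tor (K := K) (-1) (-1) using 1 <;> ext i j <;> fin_cases i <;> fin_cases j <;> simp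

theorem tor_xy (i j : ℤ) : tor K (ζ, 1) ^ i * tor K (1, ζ) ^ j = tor K (ζ ^ i, ζ ^ j) := by
  rw [← map_zpow, ← map_zpow, ← map_mul]; simp

theorem gm0 {n : ℕ} (ho : ∀ i : ℤ, ζ ^ i = 1 ↔ (8 * 2 ^ n : ℤ) ∣ i)
    (hw : A w !![1, 0; 0, -1] !![0, 1; 1, 0]) (hd : A d !![0, 1; -1, 0] !![0, 1; -1, 0]) :
    GM0 n (tor K (ζ, 1)) (tor K (1, ζ)) w d := by
  refine ⟨fun i j => ?_, by rw [← map_mul, ← map_mul, mul_comm], ?_, ?_, ?_, ?_,
    d_tor hd _ _, d_tor hd _ _⟩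
  · rw [tor_xy, ← ho, ← ho]
    exact ⟨tor_eq_one, fun h => by rw [h.1, h.2]; exact map_one _⟩
  · refine (hw.mul hw).eq A.one 1 ?_ ?_ <;> ext i j <;> fin_cases i <;> fin_cases j <;> simp
  · refine (hd.mul hd).eq A.one (-1) ?_ ?_ <;> ext i j <;> fin_cases i <;> fin_cases j <;> simp
  · refine (hw.mul hd).eq (hd.mul hw) (-1) ?_ ?_ <;> simp
  · rw [mul_inv_eq_iff_eq_mul]
    refine (hw.mul (A_tor _ _)).eq ((A_tor _ _).mul hw) 1 ?_ ?_ <;> simp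

theorem sc {n : ℕ} (h2 : (2 : K) ≠ 0) (ho : ∀ i : ℤ, ζ ^ i = 1 ↔ (8 * 2 ^ n : ℤ) ∣ i)
    (hm : ζ ^ (4 * 2 ^ n : ℤ) = -1) (hw : A w !![1, 0; 0, -1] !![0, 1; 1, 0])
    (hd : A d !![0, 1; -1, 0] !![0, 1; -1, 0]) {x y z : G2 K} {S : Subgroup (G2 K)}
    (hxy : ∀ i j : ℤ, x ^ i * y ^ j = tor K (ζ ^ i, ζ ^ j)) (hz : A z 1 (-1))
    (hS : GM n S x y w d) : SC (cS ⊤ z) S (gQ n x y w) := by
  intro g hg u hu hs
  have hf : Fx z u := by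
    obtain ⟨i, rfl | rfl⟩ := hS.mem_gQ.1 hu
    · rw [hxy]
      refine (A_tor (ζ ^ (-i)) (ζ ^ i)).fx h2 hz ?_
      rw [← Units.val_mul, ← _root_.zpow_add]
      simp [one_fin_two]
    · rw [hxy]
      refine ((A_tor (ζ ^ (-i)) (ζ ^ (i + 4 * 2 ^ n))).mul hw).fx h2 hz ?_
      rw [← Units.val_mul, ← _root_.zpow_add, neg_add_cancel_left, hm]
      simp [one_fin_two]
  have hf' := hf.conj (mem_cS_top.1 hg)
  generalize g * u * g⁻¹ = s at hs hf'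
  obtain ⟨i, j, rfl | rfl | rfl | rfl⟩ := (hS.mem s).1 hs
  · have e := congrFun (congrFun (hz.comm (hxy i j ▸ A_tor _ _) hf' !![0, 1; 0, 0]) 0) 1
    have e' : ζ ^ (i + j) = 1 := Units.ext (by rw [_root_.zpow_add]; simpa using e)
    refine hS.mem_gQ.2 ⟨j, Or.inl (hS.toGM0.inj.2 ⟨?_, by simp⟩)⟩
    simpa using (ho _).1 e'
  · have e := congrFun (congrFun
      (hz.comm (A.mul (hxy i j ▸ A_tor _ _) hw) hf' !![0, 1; 0, 0]) 0) 1
    have e' : ζ ^ (i + j + 4 * 2 ^ n) = 1 := Units.ext (by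
      rw [_root_.zpow_add, _root_.zpow_add, hm]; simpa using e)
    obtain ⟨c, hc⟩ := (ho _).1 e'
    refine hS.mem_gQ.2 ⟨-i, Or.inr ?_⟩
    rw [(hS.toGM0.inj (k := - -i) (l := -i + 4 * 2 ^ n)).2
      ⟨by simp, c - 1, by linear_combination hc⟩]
  · have e := congrFun (congrFun
      (hz.comm (A.mul (hxy i j ▸ A_tor _ _) hd) hf' !![1, 0; 0, 0]) 0) 1
    simp at e
  · have e := congrFun (congrFun
      (hz.comm (A.mul (hxy i j ▸ A_tor _ _) (hw.mul hd)) hf' !![1, 0; 0, 0]) 0) 1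
    simp at e

end

theorem nf {n : ℕ} {ζ : Kˣ} (hζ : orderOf ζ = 8 * 2 ^ n) : ∃ x y w d : G2 K, GM0 n x y w d ∧
    ∀ S, GM n S x y w d → NF n S x y w d := by
  have ho : ∀ i : ℤ, ζ ^ i = 1 ↔ (8 * 2 ^ n : ℤ) ∣ i := fun i => by
    rw [← orderOf_dvd_iff_zpow_eq_one, hζ]; push_cast; rfl
  have hn : ζ ^ (4 * 2 ^ n : ℤ) ≠ 1 := fun e => by
    have := Int.le_of_dvd (by positivity) ((ho _).1 e)
    have : (0 : ℤ) < 2 ^ n := by positivity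
    omega
  have hm : ζ ^ (4 * 2 ^ n : ℤ) = -1 := by
    have e : ζ ^ (4 * 2 ^ n : ℤ) * ζ ^ (4 * 2 ^ n : ℤ) = 1 := by
      rw [← _root_.zpow_add, ho]; exact ⟨1, by ring⟩
    rcases mul_self_eq_one_iff.1 (congrArg Units.val e) with e | e
    · exact (hn (Units.ext e)).elim
    · exact Units.ext e
  have h2 : (2 : K) ≠ 0 := fun e => hn (hm.trans (Units.ext (by
    simp only [Units.val_neg, Units.val_one]; linear_combination -e)))
  obtain ⟨ι, hι⟩ : ∃ ι, ι = ζ ^ (2 * 2 ^ n : ℤ) := ⟨_, rfl⟩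
  have hi : (ι : K) * ι = -1 := by
    have : ι * ι = -1 := by rw [hι, ← _root_.zpow_add, ← hm]; congr 1; ring
    simpa using congrArg Units.val this
  obtain ⟨w, hw⟩ := A.ex (P := !![(1 : K), 0; 0, -1]) (Q := !![0, 1; 1, 0]) (by simp) (by simp)
  obtain ⟨d, hd⟩ := A.ex (P := !![(0 : K), 1; -1, 0]) (Q := !![0, 1; -1, 0]) rfl (by simp)
  have h0 := gm0 ho hw hd
  have hxy := tor_xy (ζ := ζ)
  obtain ⟨x, hx⟩ : ∃ x, x = tor K (ζ, 1) := ⟨_, rfl⟩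
  obtain ⟨y, hy⟩ : ∃ y, y = tor K (1, ζ) := ⟨_, rfl⟩
  rw [← hx, ← hy] at h0 hxy
  have hxm : x ^ (4 * 2 ^ n : ℤ) = tor K (-1, 1) := by rw [hx, ← map_zpow]; simp [hm]
  have hρ : gρ x y = tor K (ζ⁻¹, ζ) := by rw [gρ, hx, hy, ← map_inv, ← map_mul]; simp
  have hη : gρ x y⁻¹ = tor K (ζ⁻¹, ζ⁻¹) := by
    rw [gρ, hx, hy, ← map_inv, ← map_inv, ← map_mul]; simp
  have hρq : gρ x y ^ (2 * 2 ^ n : ℤ) = tor K (ι⁻¹, ι) := by rw [hρ, ← map_zpow]; simp [hι]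
  have hηq : gρ x y⁻¹ ^ (2 * 2 ^ n : ℤ) = tor K (ι⁻¹, ι⁻¹) := by rw [hη, ← map_zpow]; simp [hι]
  have hσ : A (gσ n x w) !![1, 0; 0, 1] !![0, -1; 1, 0] := by
    rw [gσ, hxm]; simpa using hw.mul (A_tor (-1) 1)
  have hτ : A (gσ n x (w * d)) !![0, -1; 1, 0] !![-1, 0; 0, -1] := by
    rw [gσ, hxm]; simpa using (hw.mul hd).mul (A_tor (-1) 1)
  have hz : gz n x y = tor K (-1, -1) := by
    change gρ x y ^ _ = _
    rw [hρ, ← map_zpow]; simp [hm]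
  refine ⟨x, y, w, d, h0, fun S hS => ⟨hS, ?_, ?_, ?_, sc h2 ho hm hw hd hxy (hz ▸ A_z) hS⟩⟩
  · obtain ⟨a, ha⟩ := ex_a (K := K)
    refine ⟨a, ?_, ?_, a_d ha hd⟩
    · rw [hx, hy, a_tor ha, ← map_inv]; simp
    · rw [hx, hy, a_tor ha, ← map_inv, ← map_mul]; simp
  · rw [GR, hρq, hη]; exact gr1 h2 hi hσ hτ
  · rw [GR, hηq, hρ]; exact gr2 h2 hi hσ hτ

end G2m

open G2m

theorem exists_G2 (n : ℕ) : ∃ (K : Type) (_ : Field K) (_ : Fintype K), Odd (Fintype.card K) ∧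
    ∃ (S : Sylow 2 (Cfsg.Lie.G2 K)) (x y w d : Cfsg.Lie.G2 K), NF n (S : Subgroup _) x y w d := by
  obtain ⟨q, m, hq, hm, h⟩ := exists_prime_sub (n + 2)
  haveI := Fact.mk hq
  have h1 : q = 8 * 2 ^ n * m + 1 := by
    have := hq.two_le
    rw [show 8 * 2 ^ n = 2 * 2 ^ (n + 2) by ring]; omega
  have ho : Odd q := ⟨4 * 2 ^ n * m, by rw [h1]; ring⟩
  obtain ⟨g, hg⟩ := IsCyclic.exists_ofOrder_eq_natCard (α := (ZMod q)ˣ)
  rw [Nat.card_units, Nat.card_zmod, h, show 2 * 2 ^ (n + 2) = 8 * 2 ^ n by ring] at hg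
  obtain ⟨x, y, w, d, h0, hn⟩ := nf (n := n) (ζ := g ^ m) (by
    rw [orderOf_pow_of_dvd hm.pos.ne' (hg ▸ dvd_mul_left _ _), hg, Nat.mul_div_cancel _ hm.pos])
  obtain ⟨S, hS⟩ := h0.exists_gm
  refine ⟨ZMod q, inferInstance, inferInstance, by rwa [ZMod.card], ⟨S, hS.pgrp, ?_⟩, x, y, w, d,
    hn S hS⟩
  intro Q hQ hle
  refine (eq_of_le_of_card_ge hle ?_).symm
  have h2 := card_le (F := ZMod q) (by rwa [Nat.card_zmod]) (map_subtype_le Q) (hQ.map _)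
  have h3 : q ^ 2 - 1 = 2 ^ (n + 4) * (m * (2 * (2 * 2 ^ n * m) + 1)) :=
    Nat.sub_eq_of_eq_add (by rw [h1]; ring)
  have h4 : Odd (m * (2 * (2 * 2 ^ n * m) + 1)) := hm.mul ⟨_, rfl⟩
  rw [card_map_of_injective (subtype_injective _), Nat.card_zmod, h3,
    padicValNat.mul (by positivity) h4.pos.ne', padicValNat.prime_pow,
    padicValNat.eq_zero_of_not_dvd h4.not_two_dvd_nat] at h2
  rw [hS.card]
  exact h2

end H93.QW
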