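import Cfsg.Agent.Lib.Fusion.Park
import Cfsg.Agent.Lib.QW.Api2
import Cfsg.Agent.Lib.QW.CS2
import Cfsg.Agent.Lib.QW.CC
import Cfsg.Agent.Lib.QW.Tr2
import Cfsg.Agent.Lib.QW.Gex
import Cfsg.Agent.Lib.QW.U2
import Cfsg.Agent.Lib.QW.G2

/-!
# Weakly closed quaternion subgroups: the assembly
-/

set_option autoImplicit false

namespace H93.QW

open Subgroup Cfsg Cfsg.FusionSystem H90

variable {Γ : Type*} [Group Γ] {S : Subgroup Γ}

theorem real_of_re {G : Type*} [Group G] {S' : Subgroup G} {f : Γ → G} {f' : G → Γ} (hf : Mul S f)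
    (h1 : ∀ u ∈ S, f u ∈ S' ∧ f' (f u) = u) (h2 : ∀ u ∈ S', f' u ∈ S ∧ f (f' u) = u)
    (r1 : ∀ P ≤ S, ∀ g, Cj g P S → Re f P g) (r2 : ∀ P ≤ S', ∀ g, Cj g P S' → Re f' P g) :
    ∃ κ : S →* G, (fusionSystemOfSubgroup ⊤ S le_top).IsRealizedBy κ ∧ S' = κ.range := by
  let κ : S →* G := MonoidHom.mk' (fun u => f u) fun a b => hf a a.2 b b.2
  have e : ∀ u ∈ S, ext κ u = f u := fun u hu => ext_of_mem hu
  refine ⟨κ, H92.isRealizedBy_of_map (fun a b hab => Subtype.ext ?_) (fun P φ hφ => ?_)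
    fun P φ g hP h3 h4 => ?_, le_antisymm (fun u hu => ⟨⟨_, (h2 u hu).1⟩, (h2 u hu).2⟩) ?_⟩
  · rw [← (h1 a a.2).2, ← (h1 b b.2).2]; exact congrArg f' hab
  · obtain ⟨hP, h3, g, -, h4⟩ := map_subgroup.1 hφ
    obtain ⟨g', h5⟩ := r1 P hP g fun u hu => h4 u hu ▸ h3 u hu
    exact ⟨g', fun u hu => by rw [e _ (h3 u hu), e _ (hP hu), h4 u hu, h5 u hu]⟩
  · have h5 : ∀ u ∈ P, f (φ u) = g * f u * g⁻¹ := fun u hu => by
      rw [← e _ (h3 u hu), h4 u hu, e _ (hP hu)]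
    obtain ⟨g', h6⟩ := r2 (imageAlong κ P) (fun v hv => by
      obtain ⟨u, hu, rfl⟩ := (mem_imageAlong hP).1 hv
      exact e u (hP hu) ▸ (h1 u (hP hu)).1) g fun v hv => by
      obtain ⟨u, hu, rfl⟩ := (mem_imageAlong hP).1 hv
      rw [e u (hP hu), ← h5 u hu]; exact (h1 _ (h3 u hu)).1
    refine map_subgroup.2 ⟨hP, h3, g', trivial, fun u hu => ?_⟩
    have := h6 (f u) ((mem_imageAlong hP).2 ⟨u, hu, e u (hP hu)⟩)
    rwa [← h5 u hu, (h1 _ (h3 u hu)).2, (h1 u (hP hu)).2] at this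
  · rintro _ ⟨u, rfl⟩
    exact (h1 u u.2).1

theorem CC.wr {n : ℕ} {ρ σ x y w a : Γ} (c : CC n S ρ σ x y w a)
    (h : ∀ s ∈ S, ∃ i j : ℤ, s = x ^ i * y ^ j ∨ s = x ^ i * y ^ j * w) :
    H41.WR S (n + 1) x y w := by
  have h0 : ∀ i : ℤ, x ^ i = 1 ↔ (8 * 2 ^ n : ℤ) ∣ i := fun i => by simpa using c.ord i 0
  have h1 : ∀ i j : ℤ, x ^ i * y ^ j ∈ S := fun i j =>
    mul_mem (zpow_mem c.x_mem i) (zpow_mem c.y_mem j)
  refine ⟨⟨orderOf_eq_of_zpow (fun e => QS.not_dvd (by positivity) (le_of_eq (by ring))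
    ((h0 _).1 e)) ((h0 _).2 ⟨1, by ring⟩), c.comm, fun i j e => (h0 i).2 ((c.ord i (-j)).1 (by
      rw [e, ← zpow_add, add_neg_cancel, zpow_zero])).1, c.ww, c.wx⟩, fun g => ⟨h g, ?_⟩⟩
  rintro ⟨i, j, rfl | rfl⟩
  exacts [h1 i j, mul_mem (h1 i j) c.w_mem]

variable [Finite Γ]

theorem Hyp.main {n : ℕ} {R T : Subgroup Γ} {ρ σ z : Γ} (h : Hyp n S R T ρ σ z)
    (hF : (fusionSystemOfSubgroup ⊤ S le_top).IsSaturated 2)
    (hf : S ≤ (fusionSystemOfSubgroup ⊤ S le_top).focalSubgroup) :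
    (∃ (K : Type) (_ : Field K) (_ : Fintype K), Odd (Fintype.card K) ∧
      ((∃ κ : S →* Matrix.ProjectiveSpecialLinearGroup (Fin 3) K,
        (fusionSystemOfSubgroup ⊤ S le_top).IsRealizedBy κ ∧
          ∃ U : Sylow 2 (Matrix.ProjectiveSpecialLinearGroup (Fin 3) K),
            (U : Subgroup (Matrix.ProjectiveSpecialLinearGroup (Fin 3) K)) = κ.range) ∨
      (∃ κ : S →* Cfsg.Lie.G2 K, (fusionSystemOfSubgroup ⊤ S le_top).IsRealizedBy κ ∧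
        ∃ U : Sylow 2 (Cfsg.Lie.G2 K), (U : Subgroup (Cfsg.Lie.G2 K)) = κ.range))) ∨
      ∃ P ≤ S, IsQuasiDihedral P ∧ SC ⊤ S P := by
  haveI : Fact (Nat.Prime 2) := ⟨Nat.prime_two⟩
  obtain ⟨z', a, t⟩ := h.exists_tri
  obtain h0 | ⟨h1, h2⟩ := h.dich t
  · obtain ⟨ρ', h', c⟩ := h.cs t h0
    exact Or.inr (h'.qd t c)
  obtain ⟨x, y, w, c⟩ := h.cc t h1 h2
  left
  obtain h3 | ⟨d, b, g, e1, e2, e3⟩ := h.gm c
  · have h' := c.wr h3
    obtain ⟨K, _, _, h4, U, x', y', t', m, h5, h6, h7⟩ := exists_SL_three_wr (n + 1)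
    obtain ⟨κ, h8, U, h9⟩ := wr_realize h' hF (wr_od_of_focal h' hF hf).1
      (wr_od_of_focal h' hF hf).2 h5 h6 h7 (H10.commutator_SL_fin_eq_top 3 (by omega))
    exact ⟨K, _, _, Nat.card_eq_fintype_card (α := K) ▸ h4, Or.inl (real_PSL_three h8 U h9)⟩
  have ez : gz n x y = z := by rw [h.z_def, c.rho]; rfl
  have eR : gQ n x y w = R := le_antisymm
    (by
      rw [gQ, closure_le, Set.insert_subset_iff, Set.singleton_subset_iff]
      exact ⟨show y * x⁻¹ ∈ R from c.rho ▸ h.ρ_mem, show w * x ^ _ ∈ R from c.sig ▸ h.σ_mem⟩)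
    (h.le_iff.2 ⟨subset_closure (Or.inl c.rho), subset_closure (Or.inr c.sig)⟩)
  have hz : Sat (cS ⊤ (gz n x y)) S := ez ▸ h.satz
  have nf := g.nf hz (by rw [ez, eR]; exact h.sc z h.z_mem_T h.zz h.z_ne) h.tr e1 e2 e3
  obtain ⟨K, _, _, h4, U, x', y', w', d', nf'⟩ := exists_G2 n
  have hU := H91.group_eq_subgroup (U : Subgroup (Cfsg.Lie.G2 K)) ▸ isSaturated_groupFusionSystem U
  have q := nf'.toGM.dq.q
  obtain ⟨f, f', m1, m2, h5, h6, a1, a2, a3, a4⟩ := g.exists_equiv nf'.toGM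
  obtain ⟨κ, h7, h8⟩ := real_of_re m1 h5 h6 (nf.re h.sat hz nf' m1 a1 a2 a3 a4)
    (nf'.re (sat_of U.isPGroup' hU)
      (sat_cent U.isPGroup' hU (q.le q.z_mem) fun s hs => mem_cS_top.2 (q.zc hs)) nf m2
      (a1 ▸ (h5 x g.x_mem).2) (a2 ▸ (h5 y g.y_mem).2) (a3 ▸ (h5 w g.w_mem).2)
      (a4 ▸ (h5 d g.d_mem).2))
  exact ⟨K, _, _, h4, Or.inr ⟨κ, h7, U, h8⟩⟩

omit [Finite Γ] in
theorem exists_hyp {Ω : Type*} [Group Ω] {S : Subgroup Ω} [Finite S] (hS : IsPGroup 2 S)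
    {F : FusionSystem S} (hF : F.IsSaturated 2) (h1 : F.core = ⊥) (h2 : S ≤ F.focalSubgroup)
    {R : Subgroup Ω} (hRS : R ≤ S) {n : ℕ} (eR : R ≃* QuaternionGroup (2 ^ (n + 2)))
    (hW : F.WeaklyClosed R)
    (hC : ∀ y (hy : y ∈ centralizerIn S R), orderOf y = 2 →
      (csys F (zpowers y) (zpowers_le.2 hy.1)).StronglyClosed R)
    {G : Type*} [Group G] [Finite G] {ι : S →* G} (hι : F.IsRealizedBy ι) :
    ∃ T ρ σ z, Hyp n ι.range (imageAlong ι R) T ρ σ z := by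
  haveI : Fact (Nat.Prime 2) := ⟨Nat.prime_two⟩
  obtain ⟨ρ, σ, e1, e2, e3, -, e4⟩ := H41.exists_gens_of_quaternion (by positivity)
    ((imageEquiv hι.1 hRS).symm.trans eR)
  have hp : IsPGroup 2 ι.range := hS.of_surjective _ ι.rangeRestrict_surjective
  have wc : ∀ g, Cj g (imageAlong ι R) ι.range → Cj g (imageAlong ι R) (imageAlong ι R) :=
    fun g hg v hv => by
      obtain ⟨u, hu, rfl⟩ := (mem_imageAlong hRS).1 hv
      obtain ⟨f, hf, e⟩ := H92.exists_map_conj hι hRS g fun x hx =>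
        hg _ (ext_mem_imageAlong hRS hx)
      rw [← e u hu]
      exact ext_mem_imageAlong hRS ((weaklyClosed_iff_map.1 hW).2 f hf ▸ mem_im_of_mem f hu)
  have q : QS n ι.range (imageAlong ι R) (cS (cS ι.range ρ) σ) ρ σ (σ * σ) :=
    ⟨hp, fun i => by
      rw [← orderOf_dvd_iff_zpow_eq_one, e1]; push_cast
      rw [show (2 * 2 ^ (n + 2) : ℤ) = 8 * 2 ^ n by ring], by
      rw [e2, ← zpow_natCast]; congr 1; push_cast; ring, rfl, e3, e4, imageAlong_le_range R,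
      fun s hs => wc s ((Cj.of_mem hs).mono (imageAlong_le_range R) le_rfl), fun g => and_assoc⟩
  have hs := sat_range hι hS hF
  refine ⟨_, ρ, σ, _, q, sat_of hp hs,
    sat_cent hp hs (q.le q.z_mem) fun s hs => mem_cS_top.2 (q.zc hs), wc, fun y hy y2 y1 => ?_,
    ?_, tr_of hp hs (focal_range hι h2)⟩
  · obtain ⟨u, hu, rfl⟩ := mem_range_iff_ext.1 (q.T_le hy)
    have hc : u ∈ centralizerIn S R := ⟨hu, fun r hr => ext_inj hι.1 (mul_mem (hRS hr) hu)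
      (mul_mem hu (hRS hr)) (by
        rw [ext_mul (hRS hr) hu, ext_mul hu (hRS hr), q.T_comm hy (ext_mem_imageAlong hRS hr)])⟩
    refine sc_cent hι hc hRS (hC u hc (orderOf_eq_prime ?_ ?_))
    · exact ext_inj hι.1 (pow_mem hu 2) (one_mem _) (by rw [sq, ext_mul hu hu, y2, ext_one])
    · rintro rfl; exact y1 ext_one
  · by_contra hn
    refine (core_ne_bot_iff hS hF).2 ⟨preimageAlong ι (zpowers (σ * σ)), fun e => ?_, ?_,
      sc_preimage hι ?_⟩ h1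
    · obtain ⟨u, hu, e'⟩ := mem_range_iff_ext.1 (q.le q.z_mem)
      have : u ∈ (⊥ : Subgroup Ω) := e ▸ mem_preimageAlong.2 ⟨hu, e' ▸ mem_zpowers _⟩
      rw [mem_bot.1 this, ext_one] at e'
      exact q.z_ne e'.symm
    · refine ⟨⟨fun a b => Subtype.ext ?_⟩⟩
      obtain ⟨ha, i, hi⟩ := mem_preimageAlong.1 a.2
      have hb := (mem_preimageAlong.1 b.2).1
      refine ext_inj hι.1 (mul_mem ha hb) (mul_mem hb ha) ?_
      rw [coe_mul, coe_mul, ext_mul ha hb, ext_mul hb ha, ← hi]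
      exact ((show Commute (ext ι b) (σ * σ) from q.zc (ext_mem_range _)).zpow_right i).eq.symm
    · intro g _ u hu h3
      rcases q.invol (zpowers_le.2 q.z_mem hu) (by
        obtain ⟨i, rfl⟩ := hu
        rw [← (Commute.refl _).mul_zpow, q.zz, one_zpow]) with rfl | rfl
      · simp
      · by_contra h4
        exact hn ⟨g, h3, fun e => h4 (e.symm ▸ mem_zpowers _)⟩

end H93.QW
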